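import Cfsg.Agent.Lib.FTUse.Transitive
import Mathlib.Algebra.Module.Equiv.Basic
import Mathlib.RingTheory.LittleWedderburn
import Mathlib.LinearAlgebra.Dimension.Free
import Mathlib.Algebra.CharP.Algebra
import Mathlib.FieldTheory.Finite.GaloisField

/-!
# The field spanned by a normal abelian subgroup of a group transitive up to sign

`R = ` the ring generated by a commutative normal subgroup `F` in `AddMonoid.End E` is a field acting
simply on `E`; if moreover `C_D(F) ≤ F` and `|D|` is... then `E` is one-dimensional over it.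
-/

set_option autoImplicit false

namespace Cfsg.Agent.FTUse.Transitive

open MulAction

variable {D E : Type*} [Group D] [AddCommGroup E] [DistribMulAction D E]

/-- `D` as endomorphisms of `E`. -/
def op : D →* AddMonoid.End E := DistribMulAction.toAddMonoidEnd D E

theorem op_apply (d : D) (e : E) : op d e = d • e := rfl

variable (F : Subgroup D)

/-- The ring generated by `F`. -/
def ring (E : Type*) [AddCommGroup E] [DistribMulAction D E] : Subring (AddMonoid.End E) :=
  Subring.closure (op '' (F : Set D))

variable {F}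

theorem op_mem {f : D} (hf : f ∈ F) : op f ∈ ring F E := Subring.subset_closure ⟨f, hf, rfl⟩

theorem ring_commute (hc : ∀ f ∈ F, ∀ g ∈ F, f * g = g * f) {x y : AddMonoid.End E}
    (hx : x ∈ ring F E) (hy : y ∈ ring F E) : Commute x y := by
  have h1 : ∀ f ∈ F, ∀ z ∈ ring F E, Commute (op f : AddMonoid.End E) z := by
    intro f hf z hz
    refine Subring.closure_induction (p := fun z _ => Commute (op f : AddMonoid.End E) z)
      ?_ (Commute.zero_right _) (Commute.one_right _) (fun a b _ _ ha hb => ha.add_right hb)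
      (fun a _ ha => ha.neg_right) (fun a b _ _ ha hb => ha.mul_right hb) hz
    rintro _ ⟨g, hg, rfl⟩
    show op f * op g = op g * op f
    rw [← map_mul, ← map_mul, hc f hf g hg]
  refine Subring.closure_induction (p := fun z _ => Commute z y)
    ?_ (Commute.zero_left _) (Commute.one_left _) (fun a b _ _ ha hb => ha.add_left hb)
    (fun a _ ha => ha.neg_left) (fun a b _ _ ha hb => ha.mul_left hb) hx
  rintro _ ⟨g, hg, rfl⟩
  exact h1 g hg y hy

theorem conj_mem [hn : F.Normal] (d : D) {x : AddMonoid.End E} (hx : x ∈ ring F E) :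
    op d * x * op d⁻¹ ∈ ring F E := by
  refine Subring.closure_induction (p := fun z _ => op d * z * op d⁻¹ ∈ ring F E) ?_ ?_ ?_ ?_ ?_ ?_ hx
  · rintro _ ⟨g, hg, rfl⟩
    rw [← map_mul, ← map_mul]
    exact op_mem (hn.conj_mem g hg d)
  · simpa using zero_mem _
  · rw [mul_one, ← map_mul, mul_inv_cancel, map_one]; exact one_mem _
  · intro a b _ _ ha hb
    rw [mul_add, add_mul]
    exact add_mem ha hb
  · intro a _ ha
    rw [mul_neg, neg_mul]
    exact neg_mem ha
  · intro a b _ _ ha hb
    have h1 : (op d⁻¹ : AddMonoid.End E) * op d = 1 := by rw [← map_mul, inv_mul_cancel, map_one]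
    have e : op d * (a * b) * op d⁻¹ = (op d * a * op d⁻¹) * (op d * b * op d⁻¹ : AddMonoid.End E) := by
      simp only [mul_assoc]
      rw [← mul_assoc (op d⁻¹ : AddMonoid.End E) (op d), h1, one_mul]
    rw [e]
    exact mul_mem ha hb

variable [Finite E]

theorem eq_zero_of_apply [F.Normal] (hc : ∀ f ∈ F, ∀ g ∈ F, f * g = g * f) (ht : SignTrans D E)
    {r : AddMonoid.End E} (hr : r ∈ ring F E) {v : E} (hv : v ≠ 0) (hrv : r v = 0) : r = 0 := by
  classical
  set R := ring F E
  haveI : Finite (AddMonoid.End E) := Finite.of_injective (fun f : AddMonoid.End E => (f : E → E))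
    DFunLike.coe_injective
  let Ann : E → AddSubgroup R := fun w =>
    { carrier := {x | (x : AddMonoid.End E) w = 0}
      add_mem' := fun {x y} hx hy => by
        show (x : AddMonoid.End E) w + (y : AddMonoid.End E) w = 0
        rw [Set.mem_ofPred_eq] at hx hy
        rw [hx, hy, add_zero]
      zero_mem' := rfl
      neg_mem' := fun {x} hx => by
        show -((x : AddMonoid.End E) w) = 0
        rw [Set.mem_ofPred_eq] at hx
        rw [hx, neg_zero] }
  have hmem : ∀ w (x : R), x ∈ Ann w ↔ (x : AddMonoid.End E) w = 0 := fun w x => Iff.rfl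
  have hcard : ∀ a b : E, a ≠ 0 → b ≠ 0 → Nat.card (Ann a) = Nat.card (Ann b) := by
    have hle : ∀ a b : E, a ≠ 0 → b ≠ 0 → Nat.card (Ann b) ≤ Nat.card (Ann a) := by
      intro a b ha hb
      obtain ⟨d, hd⟩ := ht b a hb ha
      refine Nat.card_le_card_of_injective
        (fun x : Ann b => (⟨⟨op d * x.1.1 * op d⁻¹, conj_mem d x.1.2⟩, ?_⟩ : Ann a)) ?_
      · have hx : (x.1 : AddMonoid.End E) b = 0 := x.2
        rw [hmem]
        show op d ((x.1 : AddMonoid.End E) (op d⁻¹ a)) = 0
        have e : d⁻¹ • a = b ∨ d⁻¹ • a = -b := by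
          rcases hd with e | e
          · exact Or.inl (by rw [← e, inv_smul_smul])
          · right; rw [show a = -(d • b) by rw [e, neg_neg], smul_neg, inv_smul_smul]
        rw [op_apply, op_apply]
        rcases e with e | e <;> rw [e] <;> simp [hx]
      · intro x y hxy
        have h1 : op d * x.1.1 * op d⁻¹ = (op d * y.1.1 * op d⁻¹ : AddMonoid.End E) :=
          congrArg (fun z : Ann a => (z.1 : AddMonoid.End E)) hxy
        have h2 := congrArg (fun z => (op d⁻¹ : AddMonoid.End E) * z * op d) h1
        simp only [← mul_assoc, ← map_mul, inv_mul_cancel, map_one, one_mul] at h2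
        simp only [mul_assoc, ← map_mul, inv_mul_cancel, map_one, mul_one] at h2
        exact Subtype.ext (Subtype.ext h2)
    exact fun a b ha hb => le_antisymm (hle b a hb ha) (hle a b ha hb)
  have heq : ∀ a b : E, a ≠ 0 → b ≠ 0 → Ann b ≤ Ann a → Ann a = Ann b := fun a b ha hb hle =>
    (AddSubgroup.eq_of_le_of_card_ge hle (hcard a b ha hb).le).symm
  -- all annihilators agree
  have hall : ∀ a b : E, a ≠ 0 → b ≠ 0 → Ann a = Ann b := by
    intro a b ha hb
    by_contra hne
    obtain ⟨x, hxa, hxb⟩ : ∃ x, x ∈ Ann a ∧ x ∉ Ann b := by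
      by_contra hcon
      push Not at hcon
      exact hne (heq b a hb ha hcon).symm
    rw [hmem] at hxa hxb
    have hab : a + b ≠ 0 := fun e => hxb (by
      have h1 := congrArg (x : AddMonoid.End E) e
      rwa [map_add, hxa, zero_add, map_zero] at h1)
    set w := (x : AddMonoid.End E) b with hw
    -- `w = x (a + b)`, so `Ann (a + b) ≤ Ann w`, hence equality
    have key : ∀ u : E, u ≠ 0 → (x : AddMonoid.End E) u = w → Ann u = Ann w := by
      intro u hu hxu
      refine (heq w u hxb hu fun y hy => ?_).symm
      rw [hmem] at hy ⊢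
      rw [← hxu]
      show ((y : AddMonoid.End E) * (x : AddMonoid.End E)) u = 0
      rw [(ring_commute hc y.2 x.2).eq]
      show (x : AddMonoid.End E) ((y : AddMonoid.End E) u) = 0
      rw [hy, map_zero]
    have h1 := key b hb rfl
    have h2 := key (a + b) hab (by rw [map_add, hxa, zero_add])
    refine hne (heq a b ha hb fun y hy => ?_)
    have hy' : y ∈ Ann (a + b) := h2 ▸ h1 ▸ hy
    rw [hmem] at hy hy' ⊢
    rwa [map_add, hy, add_zero] at hy'
  ext e
  by_cases he : e = 0
  · rw [he, map_zero, map_zero]
  · exact ((hall v e hv he).le (show (⟨r, hr⟩ : R) ∈ Ann v from hrv) :)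

/-- Conjugation by `d` as an endomorphism of the ring. -/
def conjHom [F.Normal] (d : D) : ring F E →+* ring F E where
  toFun x := ⟨op d * x.1 * op d⁻¹, conj_mem d x.2⟩
  map_one' := Subtype.ext (by
    show op d * (1 : AddMonoid.End E) * op d⁻¹ = 1
    rw [mul_one, ← map_mul, mul_inv_cancel, map_one])
  map_mul' x y := Subtype.ext (by
    show op d * (x.1 * y.1) * op d⁻¹ = (op d * x.1 * op d⁻¹) * (op d * y.1 * op d⁻¹ : AddMonoid.End E)
    have h1 : (op d⁻¹ : AddMonoid.End E) * op d = 1 := by rw [← map_mul, inv_mul_cancel, map_one]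
    simp only [mul_assoc]
    rw [← mul_assoc (op d⁻¹ : AddMonoid.End E) (op d), h1, one_mul])
  map_zero' := Subtype.ext (by simp)
  map_add' x y := Subtype.ext (by
    show op d * (x.1 + y.1) * op d⁻¹ = _
    rw [mul_add, add_mul]; rfl)

omit [Finite E] in
theorem conjHom_apply [F.Normal] (d : D) (x : ring F E) (e : E) :
    (conjHom d x : AddMonoid.End E) (d • e) = d • ((x : AddMonoid.End E) e) := by
  show op d ((x : AddMonoid.End E) (op d⁻¹ (d • e))) = _
  rw [op_apply d⁻¹, inv_smul_smul, op_apply]

omit [Finite E] in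
theorem conjHom_mul [F.Normal] (c d : D) (x : ring F E) :
    conjHom (c * d) x = conjHom c (conjHom d x) := Subtype.ext (by
  show op (c * d) * x.1 * op (c * d)⁻¹ = op c * (op d * x.1 * op d⁻¹) * op c⁻¹
  rw [mul_inv_rev, map_mul, map_mul]
  simp only [mul_assoc])

omit [Finite E] in
theorem conjHom_one [F.Normal] (x : ring F E) : conjHom (1 : D) x = x := Subtype.ext (by
  show op (1 : D) * x.1 * op (1 : D)⁻¹ = x.1
  rw [inv_one, map_one, one_mul, mul_one])

/-- Conjugation as a homomorphism into the ring automorphisms. -/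
def conjAut [F.Normal] : D →* (ring F E ≃+* ring F E) where
  toFun d := RingEquiv.ofRingHom (conjHom d) (conjHom d⁻¹)
    (RingHom.ext fun x => by show conjHom d (conjHom d⁻¹ x) = x; rw [← conjHom_mul, mul_inv_cancel, conjHom_one])
    (RingHom.ext fun x => by show conjHom d⁻¹ (conjHom d x) = x; rw [← conjHom_mul, inv_mul_cancel, conjHom_one])
  map_one' := RingEquiv.ext fun x => conjHom_one x
  map_mul' c d := RingEquiv.ext fun x => conjHom_mul c d x

variable [FaithfulSMul D E]

omit [Finite E] in
theorem mem_centralizer_of_conjHom [F.Normal] {d : D} (h : ∀ x : ring F E, conjHom d x = x) :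
    d ∈ Subgroup.centralizer (F : Set D) := by
  refine Subgroup.mem_centralizer_iff.2 fun f hf => ?_
  refine eq_of_smul_eq_smul (α := E) fun e => ?_
  have h1 := conjHom_apply (F := F) d ⟨op f, op_mem hf⟩ e
  rw [h] at h1
  rw [mul_smul, mul_smul]
  exact h1

/-- A subgroup of the automorphism group of a finite field is small and cyclic. -/
theorem card_le_of_injective {K : Type*} [Field K] [Finite K] {G : Type*} [Group G]
    (f : G →* (K ≃+* K)) (hf : Function.Injective f) :
    IsCyclic G ∧ Nat.card G * 2 ≤ Nat.card K := by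
  obtain ⟨p, hK⟩ := CharP.exists K
  haveI hp : Fact p.Prime := ⟨(CharP.char_is_prime_or_zero K p).resolve_right
    (fun h => by subst h; haveI := CharP.charP_to_charZero K; exact not_finite K)⟩
  letI := ZMod.algebra K p
  let g : G →* (K ≃ₐ[ZMod p] K) :=
    { toFun := fun x => AlgEquiv.ofRingEquiv (f := f x) fun c => by
        exact RingHom.congr_fun (RingHom.ext_zmod
          ((f x : K →+* K).comp (algebraMap (ZMod p) K)) (algebraMap (ZMod p) K)) c
      map_one' := by ext y; simp
      map_mul' := fun x y => by ext z; simp [AlgEquiv.mul_apply]; rfl }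
  have hg : Function.Injective g := fun x y h => hf (RingEquiv.ext fun z => DFunLike.congr_fun h z)
  refine ⟨isCyclic_of_injective g hg, ?_⟩
  have h1 : Nat.card G ≤ Module.finrank (ZMod p) K := by
    rw [← IsGalois.card_aut_eq_finrank (ZMod p) K]
    exact Nat.card_le_card_of_injective g hg
  have h2 : Nat.card K = p ^ Module.finrank (ZMod p) K := by
    rw [Module.natCard_eq_pow_finrank (K := ZMod p), Nat.card_zmod]
  have h3 : 0 < Module.finrank (ZMod p) K := Module.finrank_pos
  generalize Module.finrank (ZMod p) K = r at h1 h2 h3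
  have h4 : 2 * r ≤ 2 ^ r := by
    obtain ⟨s, rfl⟩ : ∃ s, r = s + 1 := ⟨r - 1, by omega⟩
    rw [pow_succ]
    have := Nat.lt_two_pow_self (n := s)
    omega
  have h5 := Nat.pow_le_pow_left hp.out.two_le r
  omega

theorem isField [Nontrivial E] [F.Normal] (hc : ∀ f ∈ F, ∀ g ∈ F, f * g = g * f) (ht : SignTrans D E) :
    IsField (ring F E) := by
  haveI : Finite (AddMonoid.End E) := Finite.of_injective (fun f : AddMonoid.End E => (f : E → E))
    DFunLike.coe_injective
  letI : CommRing (ring F E) := { (inferInstance : Ring (ring F E)) with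
    mul_comm := fun x y => Subtype.ext (ring_commute hc x.2 y.2).eq }
  haveI : Nontrivial (ring F E) := ⟨⟨0, 1, fun e => by
    obtain ⟨v, hv⟩ := exists_ne (0 : E)
    exact hv (DFunLike.congr_fun (congrArg Subtype.val e) v).symm⟩⟩
  haveI : NoZeroDivisors (ring F E) := ⟨fun {a b} h => by
    by_contra hne
    rw [not_or] at hne
    obtain ⟨v, hv⟩ : ∃ v, (b : AddMonoid.End E) v ≠ 0 := by
      by_contra hall
      push Not at hall
      exact hne.2 (Subtype.ext (AddMonoidHom.ext hall))
    exact hne.1 (Subtype.ext (eq_zero_of_apply hc ht a.2 hv (DFunLike.congr_fun (congrArg Subtype.val h) v)))⟩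
  haveI : IsDomain (ring F E) := NoZeroDivisors.to_isDomain _
  exact Finite.isField_of_domain _

variable [Finite D]

theorem evaluation_bijective [Nontrivial E] [F.Normal] (hc : ∀ f ∈ F, ∀ g ∈ F, f * g = g * f)
    (ht : SignTrans D E) (hcent : Subgroup.centralizer (F : Set D) ≤ F) {v : E} (hv : v ≠ 0) :
    Function.Bijective (fun x : ring F E => (x : AddMonoid.End E) v) := by
  classical
  have hinj : Function.Injective (fun x : ring F E => (x : AddMonoid.End E) v) := fun x y h => by
    apply Subtype.ext
    refine sub_eq_zero.1 (eq_zero_of_apply hc ht (sub_mem x.2 y.2) hv ?_)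
    show (x : AddMonoid.End E) v - (y : AddMonoid.End E) v = 0
    exact sub_eq_zero.2 h
  haveI : Finite (AddMonoid.End E) := Finite.of_injective (fun f : AddMonoid.End E => (f : E → E))
    DFunLike.coe_injective
  set R := ring F E with hR
  letI : Field R := (isField hc ht).toField
  -- `|D| ≤ (|R| - 1) |Aut R|`
  let c : D →* (R ≃+* R) := conjAut
  have hker : c.ker ≤ F := fun d hd => hcent (mem_centralizer_of_conjHom fun x =>
    RingEquiv.congr_fun (MonoidHom.mem_ker.1 hd) x)
  have hF : Nat.card F + 1 ≤ Nat.card R := by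
    have h1 : Nat.card F ≤ Nat.card {x : R // x ≠ 0} := by
      refine Nat.card_le_card_of_injective (fun f : F => ⟨⟨op (f : D), op_mem f.2⟩, fun e => ?_⟩) ?_
      · have h1 : op (f : D) ((f : D)⁻¹ • v) = (0 : E) := by
          rw [show (op (f : D) : AddMonoid.End E) = 0 from congrArg Subtype.val e]; rfl
        rw [op_apply, smul_inv_smul] at h1
        exact hv h1
      · intro f g h
        exact Subtype.ext (eq_of_smul_eq_smul (α := E) fun e =>
          DFunLike.congr_fun (congrArg (fun z : {x : R // x ≠ 0} => z.1.1) h) e)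
    have h2 : Nat.card {x : R // x ≠ 0} + 1 = Nat.card R := by
      rw [← Finite.card_option, Nat.card_congr (Equiv.optionSubtypeNe (0 : R))]
    omega
  have hcardD : Nat.card D * 2 ≤ (Nat.card R - 1) * Nat.card R := by
    rw [Subgroup.card_eq_card_quotient_mul_card_subgroup c.ker, mul_comm (Nat.card (D ⧸ c.ker)),
      mul_assoc]
    refine Nat.mul_le_mul ((Subgroup.card_le_of_le hker).trans (by omega)) ?_
    exact (card_le_of_injective _ (QuotientGroup.kerLift_injective c)).2
  -- the module structure
  letI : Module R E :=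
    { smul := fun r e => (r : AddMonoid.End E) e
      one_smul := fun e => rfl
      mul_smul := fun r s e => rfl
      smul_zero := fun r => map_zero (r : AddMonoid.End E)
      smul_add := fun r a b => map_add (r : AddMonoid.End E) a b
      add_smul := fun r s e => rfl
      zero_smul := fun e => rfl }
  have hpow : Nat.card E = Nat.card R ^ Module.finrank R E := Module.natCard_eq_pow_finrank
  have hbound : Nat.card E ≤ 2 * Nat.card D + 1 := by
    have h1 : Nat.card {e : E // e ≠ 0} ≤ Nat.card (D × Bool) := by
      refine Nat.card_le_card_of_injective (fun e => ((ht v e.1 hv e.2).choose,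
        decide ((ht v e.1 hv e.2).choose • v = e.1))) ?_
      intro a b h
      simp only [Prod.mk.injEq] at h
      obtain ⟨h1, h2⟩ := h
      have ha := (ht v a.1 hv a.2).choose_spec
      have hb := (ht v b.1 hv b.2).choose_spec
      rw [← h1] at hb h2
      apply Subtype.ext
      by_cases hd : (ht v a.1 hv a.2).choose • v = a.1
      · rw [decide_eq_true hd, eq_comm, decide_eq_true_iff] at h2
        rw [← hd, h2]
      · rw [decide_eq_false hd, eq_comm, decide_eq_false_iff_not] at h2
        exact neg_injective ((ha.resolve_left hd).symm.trans (hb.resolve_left h2))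
    have h2 : Nat.card {e : E // e ≠ 0} + 1 = Nat.card E := by
      rw [← Finite.card_option, Nat.card_congr (Equiv.optionSubtypeNe (0 : E))]
    rw [Nat.card_prod, show Nat.card Bool = 2 by simp] at h1
    omega
  have hdim : Module.finrank R E = 1 := by
    by_contra hne
    have hpos : 0 < Module.finrank R E := Module.finrank_pos
    have h2 : Nat.card R ^ 2 ≤ Nat.card E := by
      rw [hpow]; exact Nat.pow_le_pow_right Nat.card_pos (by omega)
    have h3 : 2 ≤ Nat.card R := Finite.one_lt_card
    obtain ⟨k, hk⟩ : ∃ k, Nat.card R = k + 2 := ⟨Nat.card R - 2, by omega⟩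
    rw [hk] at h2 hcardD
    simp only [show k + 2 - 1 = k + 1 by omega] at hcardD
    nlinarith
  refine (Nat.bijective_iff_injective_and_card _).2 ⟨hinj, ?_⟩
  rw [hpow, hdim, pow_one]

/-- The semilinear model: `E` is the additive group of `GaloisField q f` and `D` acts semilinearly. -/
theorem exists_semilinear [Nontrivial E] [F.Normal] (hc : ∀ x ∈ F, ∀ y ∈ F, x * y = y * x)
    (ht : SignTrans D E) (hcent : Subgroup.centralizer (F : Set D) ≤ F) {q f : ℕ} [Fact q.Prime]
    (hf : f ≠ 0) (hcard : Nat.card E = q ^ f) :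
    ∃ e : E ≃+ GaloisField q f, ∀ d : D, ∃ (r : GaloisField q f) (φ : GaloisField q f ≃+* GaloisField q f),
      r ≠ 0 ∧ ∀ x : E, e (d • x) = r * φ (e x) := by
  obtain ⟨v, hv⟩ := exists_ne (0 : E)
  have hev := evaluation_bijective hc ht hcent hv
  have hmul : ∀ (x y : ring F E) (w : E), ((x * y : ring F E) : AddMonoid.End E) w
      = (x : AddMonoid.End E) ((y : AddMonoid.End E) w) := fun x y w => rfl
  have hcomm : ∀ x y : ring F E, x * y = y * x := fun x y => Subtype.ext (ring_commute hc x.2 y.2).eq
  have hadd : ∀ (x y : ring F E) (w : E), ((x + y : ring F E) : AddMonoid.End E) w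
      = (x : AddMonoid.End E) w + (y : AddMonoid.End E) w := fun x y w => rfl
  let evA : ring F E ≃+ E := AddEquiv.ofBijective
    (AddMonoidHom.mk' (fun x : ring F E => (x : AddMonoid.End E) v) (fun x y => hadd x y v)) hev
  have hevA : ∀ x, evA x = (x : AddMonoid.End E) v := fun x => rfl
  obtain ⟨ψ, -⟩ : ∃ ψ : ring F E ≃+* GaloisField q f, True := by
    haveI : Finite (AddMonoid.End E) := Finite.of_injective (fun g : AddMonoid.End E => (g : E → E))
      DFunLike.coe_injective
    letI : Field (ring F E) := (isField hc ht).toField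
    letI := Fintype.ofFinite (ring F E)
    letI := Fintype.ofFinite (GaloisField q f)
    refine ⟨FiniteField.ringEquivOfCardEq (K := ring F E) (K' := GaloisField q f) ?_, trivial⟩
    rw [← Nat.card_eq_fintype_card, ← Nat.card_eq_fintype_card, GaloisField.card q f hf, ← hcard]
    exact Nat.card_congr evA.toEquiv
  refine ⟨evA.symm.trans ψ.toAddEquiv, fun d => ?_⟩
  set r := evA.symm (d • v) with hr
  refine ⟨ψ r, (ψ.symm.trans (conjAut d)).trans ψ, ?_, fun x => ?_⟩
  · rw [EmbeddingLike.map_ne_zero_iff, hr, EmbeddingLike.map_ne_zero_iff]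
    intro h0
    apply hv
    rw [← inv_smul_smul d v, h0, smul_zero]
  · obtain ⟨y, rfl⟩ := evA.surjective x
    show ψ (evA.symm (d • evA y)) = ψ r * ψ (conjHom d (ψ.symm (ψ (evA.symm (evA y)))))
    rw [AddEquiv.symm_apply_apply, RingEquiv.symm_apply_apply, ← map_mul]
    congr 1
    rw [AddEquiv.symm_apply_eq, hevA, hevA, hcomm, hmul, ← conjHom_apply (F := F) d y v]
    exact congrArg _ ((hevA r).symm.trans (evA.apply_symm_apply _)).symm

end Cfsg.Agent.FTUse.Transitive
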