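import Cfsg.Agent.Lib.RankOne.SetupTwoRank
import Cfsg.Agent.Lib.FTUse.Field

/-!
# S1131–S1133 modulo the odd order theorem
-/

set_option autoImplicit false
set_option linter.unusedSectionVars false

namespace Cfsg.Agent.FTUse.RankOne

open MulAction Cfsg.Agent.RankOne.Setup

universe u v

variable {G : Type u} {Ω : Type v} [Group G] [Finite G] [MulAction G Ω] [FaithfulSMul G Ω] {a : Ω} {t : G} {Q : Subgroup G}

local notation "DD" => (stabilizer G a ⊓ stabilizer G (t • a) : Subgroup G)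
local notation "II" => Cfsg.involutionsIn (stabilizer G a : Set G)
local notation "KK" => Cfsg.invertedBy (stabilizer G a ⊓ stabilizer G (t • a)) t

variable (h : Cfsg.IsRankOneSetup G Ω a t Q)
  (h2 : ∃ x y : G, x ≠ 1 ∧ y ≠ 1 ∧ x ≠ y ∧ x * x = 1 ∧ y * y = 1 ∧ x * y = y * x)
include h h2

/-- `K` conjugates the involutions of `G_a` regularly. -/
theorem conj_kk_inj {s : G} (hs : s ∈ II) {k k' : G} (hk : k ∈ KK) (hk' : k' ∈ KK)
    (e : k⁻¹ * s * k = k'⁻¹ * s * k') : k = k' := by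
  let f : KK → II := fun k => ⟨k.1⁻¹ * s * k.1, conj_mem_ii_of_dd h hs k.2.1.1⟩
  have hsurj : Function.Surjective f := fun s' => by
    obtain ⟨k, hk, he⟩ := exists_conj_kk h hs s'.2
    exact ⟨⟨k, hk⟩, Subtype.ext he⟩
  exact congrArg Subtype.val (((Nat.bijective_iff_surjective_and_card f).2 ⟨hsurj, card_kk h⟩).1
    (a₁ := ⟨k, hk⟩) (a₂ := ⟨k', hk'⟩) (Subtype.ext e))

/-- The involutions of `G_a` together with `1`. -/
def ee : Subgroup G where
  carrier := {x | x ∈ stabilizer G a ∧ x * x = 1}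
  one_mem' := ⟨one_mem _, one_mul 1⟩
  mul_mem' := by
    rintro x y ⟨hx, hxx⟩ ⟨hy, hyy⟩
    refine ⟨mul_mem hx hy, ?_⟩
    by_cases hx1 : x = 1
    · rw [hx1, one_mul, hyy]
    by_cases hy1 : y = 1
    · rw [hy1, mul_one, hxx]
    have hc := commute_ii h h2 (s := x) ⟨hx, hx1, hxx⟩ (mem_Q_of_ii h (s := y) ⟨hy, hy1, hyy⟩)
    calc x * y * (x * y) = x * (y * x) * y := by group
      _ = x * (x * y) * y := by rw [hc]
      _ = 1 := by rw [← mul_assoc x x y, hxx, one_mul, hyy]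
  inv_mem' := by
    rintro x ⟨hx, hxx⟩
    exact ⟨inv_mem hx, by rw [← mul_inv_rev, hxx, inv_one]⟩

theorem mem_ee {x : G} : x ∈ ee h h2 ↔ x ∈ stabilizer G a ∧ x * x = 1 := Iff.rfl

theorem ee_comm (x y : ee h h2) : x * y = y * x := by
  have e : ∀ z : ee h h2, z⁻¹ = z := fun z => inv_eq_of_mul_eq_one_right (Subtype.ext z.2.2)
  rw [← e (x * y), mul_inv_rev, e, e]

theorem ii_subset_ee {s : G} (hs : s ∈ II) : s ∈ ee h h2 := ⟨hs.1, hs.2.2⟩

theorem dd_normalizes_ee {d : G} (hd : d ∈ DD) : d ∈ Subgroup.normalizer (ee h h2 : Set G) := by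
  have hkey : ∀ c : G, c ∈ DD → ∀ x ∈ ee h h2, c * x * c⁻¹ ∈ ee h h2 := fun c hc x hx =>
    ⟨mul_mem (mul_mem hc.1 hx.1) (inv_mem hc.1), by
      rw [show c * x * c⁻¹ * (c * x * c⁻¹) = c * (x * x) * c⁻¹ by group, hx.2]; group⟩
  refine Subgroup.mem_normalizer_iff.2 fun x => ⟨hkey d hd x, fun hx => ?_⟩
  simpa [mul_assoc] using hkey d⁻¹ (inv_mem hd) _ hx

/-- Conjugation of `D` on `E`. -/
def rho : DD →* MulAut (ee h h2) :=
  (Subgroup.normalizerMonoidHom (ee h h2)).comp
    (Subgroup.inclusion fun _ hd => dd_normalizes_ee h h2 hd)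

theorem rho_apply (d : DD) (x : ee h h2) : (rho h h2 d x : G) = (d : G) * x * (d : G)⁻¹ := rfl

theorem mem_ker_rho {d : DD} : d ∈ (rho h h2).ker ↔ ∀ x ∈ ee h h2, (d : G) * x = x * d := by
  refine ⟨fun hd x hx => ?_, fun hd => ?_⟩
  · have e := congrArg Subtype.val (DFunLike.congr_fun (MonoidHom.mem_ker.1 hd) ⟨x, hx⟩)
    exact mul_inv_eq_iff_eq_mul.1 e
  · refine MonoidHom.mem_ker.2 (MulEquiv.ext fun x => Subtype.ext ?_)
    rw [rho_apply, hd x x.2, mul_inv_cancel_right]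
    rfl

/-- Kernel elements commute with `t` and with `K`. -/
theorem ker_facts {w : DD} (hw : w ∈ (rho h h2).ker) :
    t * (w : G) = w * t ∧ ∀ k ∈ KK, k * (w : G) = w * k := by
  have hV : ∀ c : DD, c ∈ (rho h h2).ker → t * (c : G) = c * t := by
    intro c hc
    obtain ⟨⟨s, r⟩, ⟨hs, hr, he⟩, -⟩ := existsUnique_pair h
    exact (commute_iff h hs hr he c.2).2 ((mem_ker_rho h h2).1 hc s (ii_subset_ee h h2 hs)).symm
  refine ⟨hV w hw, fun k hk => ?_⟩
  have hn := MonoidHom.normal_ker (rho h h2)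
  have h1 := hV _ (hn.conj_mem w hw ⟨k, hk.1⟩)
  simp only [Subgroup.coe_mul, InvMemClass.coe_inv] at h1
  have h3 := hV _ hw
  obtain ⟨-, hk2⟩ := (mem_kk h).1 hk
  have htt : ∀ x : G, t * (t * x) = x := fun x => by rw [← mul_assoc, h.mul_self, one_mul]
  have h4 : k⁻¹ * (w : G) * k = k * w * k⁻¹ := by
    calc k⁻¹ * (w : G) * k = (t * k * t) * w * (t * k * t)⁻¹ := by rw [hk2, inv_inv]
      _ = t * k * (t * (w : G)) * (t * k⁻¹ * t) := by simp [mul_assoc, t_inv h]
      _ = t * (k * (w : G) * k⁻¹) * t := by rw [h3]; simp [mul_assoc, htt]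
      _ = k * w * k⁻¹ := by rw [h1, mul_assoc _ t t, h.mul_self, mul_one]
  have h5 : Commute (k * k) (w : G) := by
    show k * k * (w : G) = w * (k * k)
    calc k * k * (w : G) = k * (k * w * k⁻¹) * k := by group
      _ = k * (k⁻¹ * w * k) * k := by rw [h4]
      _ = w * (k * k) := by group
  exact (commute_of_sq h hk.1 h5).eq

theorem mem_ker_of_commute {d : DD} (ht : t * (d : G) = d * t) (hK : ∀ k ∈ KK, k * (d : G) = d * k) :
    d ∈ (rho h h2).ker := by
  refine (mem_ker_rho h h2).2 fun x hx => ?_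
  by_cases hx1 : x = 1
  · rw [hx1, one_mul, mul_one]
  obtain ⟨⟨s, r⟩, ⟨hs, hr, he⟩, -⟩ := existsUnique_pair h
  obtain ⟨k, hk, hks⟩ := exists_conj_kk h hs (s' := x) ⟨hx.1, hx1, hx.2⟩
  have hs' : Commute (d : G) s := ((commute_iff h hs hr he d.2).1 ht).symm
  have hk' : Commute (d : G) k := (hK k hk).symm
  exact (hks ▸ (hk'.inv_right.mul_right hs').mul_right hk' : Commute (d : G) x).eq

/-- Conjugation by `t` on `D`. -/
def tau : DD →* DD where
  toFun d := ⟨t * d * t, t_conj_mem h d.2⟩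
  map_one' := Subtype.ext (by simp [h.mul_self])
  map_mul' c d := Subtype.ext (by
    show t * ((c : G) * d) * t = t * (c : G) * t * (t * d * t)
    simp only [mul_assoc]
    rw [← mul_assoc t t, h.mul_self, one_mul])

theorem tau_tau (d : DD) : tau h (tau h d) = d := Subtype.ext (by
  show t * (t * (d : G) * t) * t = d
  rw [← mul_assoc, ← mul_assoc, h.mul_self, one_mul, mul_assoc, h.mul_self, mul_one])

/-- An element fixed by `t` modulo the kernel commutes with `t`. -/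
theorem commute_of_rho_tau {d : DD} (hd : rho h h2 (tau h d) = rho h h2 d) :
    t * (d : G) = d * t := by
  set w : DD := d⁻¹ * tau h d with hw
  have hwk : w ∈ (rho h h2).ker := by
    rw [MonoidHom.mem_ker, hw, map_mul, map_inv, hd, inv_mul_cancel]
  have hwt : tau h w = w := Subtype.ext (by
    show t * (w : G) * t = w
    rw [(ker_facts h h2 hwk).1, mul_assoc, h.mul_self, mul_one])
  have hww : w * w = 1 := by
    have e : tau h w = (tau h d)⁻¹ * d := by rw [hw, map_mul, map_inv, tau_tau h h2]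
    rw [hwt] at e
    conv_lhs => arg 2; rw [e]
    rw [hw]; group
  have hw1 : (w : G) = 1 := dd_eq_one h w.2 (congrArg Subtype.val hww)
  have h1 : (tau h d : G) = d := congrArg Subtype.val
    (inv_mul_eq_one.1 (Subtype.ext hw1 : d⁻¹ * tau h d = 1)).symm
  conv_rhs => rw [← h1]
  show t * (d : G) = t * d * t * t
  rw [mul_assoc _ t t, h.mul_self, mul_one]

/-- The image of `D` on `E`. -/
abbrev Dbar : Subgroup (MulAut (ee h h2)) := (rho h h2).range

/-- `E` as a commutative group. -/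
@[reducible] def eeComm : CommGroup (ee h h2) :=
  { (inferInstance : Group (ee h h2)) with mul_comm := ee_comm h h2 }

theorem main (hFT : OddSolvable.{u}) :
    ∃ k₀ ∈ KK, (Subgroup.zpowers k₀ : Set G) = KK ∧
      (∀ d ∈ DD, ∀ c ∈ Subgroup.zpowers k₀, d * c * d⁻¹ ∈ Subgroup.zpowers k₀) ∧
      ∃ v ∈ DD ⊓ Subgroup.centralizer {t},
        (DD ⊓ Subgroup.centralizer {t} ⊓ Subgroup.centralizer KK) ⊔ Subgroup.closure {v} =
          DD ⊓ Subgroup.centralizer {t} := by
  classical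
  letI := eeComm h h2
  let E := Additive (ee h h2)
  letI act : DistribMulAction (Dbar h h2) E :=
    { smul := fun d m => Additive.ofMul ((d : MulAut (ee h h2)) m.toMul)
      one_smul := fun m => rfl
      mul_smul := fun c d m => rfl
      smul_zero := fun d => congrArg Additive.ofMul (map_one (d : MulAut (ee h h2)))
      smul_add := fun d m m' => congrArg Additive.ofMul (map_mul (d : MulAut (ee h h2)) m.toMul m'.toMul) }
  haveI : FaithfulSMul (Dbar h h2) E := ⟨fun {c d} hcd => Subtype.ext (MulEquiv.ext fun x =>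
    Additive.ofMul.injective (hcd (Additive.ofMul x)))⟩
  obtain ⟨⟨s, r⟩, ⟨hs, hr, he⟩, -⟩ := existsUnique_pair h
  let s₀ : E := Additive.ofMul ⟨s, ii_subset_ee h h2 hs⟩
  have hs₀ : s₀ ≠ 0 := fun e => hs.2.1 (congrArg (fun x : E => (x.toMul : G)) e)
  haveI : Nontrivial E := ⟨⟨s₀, 0, hs₀⟩⟩
  have hodd : Odd (Nat.card (Dbar h h2)) := h.odd_card.of_dvd_nat (Subgroup.card_range_dvd _)
  have hE : ∀ e : E, 2 • e = 0 := fun e => by
    rw [two_nsmul]
    exact Additive.toMul.injective (Subtype.ext e.toMul.2.2)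
  have hII : ∀ m : E, m ≠ 0 → (m.toMul : G) ∈ II := fun m hm =>
    ⟨m.toMul.2.1, fun e => hm (Additive.toMul.injective (Subtype.ext e)), m.toMul.2.2⟩
  have ht : Transitive.SignTrans (Dbar h h2) E := by
    intro x y hx hy
    obtain ⟨k, hk, hks⟩ := exists_conj_kk h (hII x hx) (hII y hy)
    refine ⟨⟨_, ⟨⟨k⁻¹, inv_mem hk.1⟩, rfl⟩⟩, Or.inl (Additive.toMul.injective (Subtype.ext ?_))⟩
    show k⁻¹ * (x.toMul : G) * k⁻¹⁻¹ = _
    rw [inv_inv, hks]
  haveI := hFT (Dbar h h2) hodd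
  haveI := Transitive.fitting_isCyclic hodd Nat.prime_two hE ht
  set F := Cfsg.fittingSubgroup (Dbar h h2) with hF
  have hc : ∀ x ∈ F, ∀ y ∈ F, x * y = y * x := fun x hx y hy =>
    congrArg Subtype.val ((IsCyclic.isMulCommutative (α := F)).is_comm.comm ⟨x, hx⟩ ⟨y, hy⟩)
  -- the action of `t` on `Dbar`
  set π := (rho h h2).rangeRestrict with hπ
  have hπs : Function.Surjective π := (rho h h2).rangeRestrict_surjective
  have hker : π.ker = (rho h h2).ker := (rho h h2).ker_rangeRestrict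
  let θ : Dbar h h2 →* Dbar h h2 := π.liftOfSurjective hπs ⟨π.comp (tau h), fun w hw => by
    rw [hker] at hw
    have e : tau h w = w := Subtype.ext (by
      show t * (w : G) * t = w
      rw [(ker_facts h h2 hw).1, mul_assoc, h.mul_self, mul_one])
    rw [MonoidHom.mem_ker, MonoidHom.comp_apply, e]
    exact MonoidHom.mem_ker.1 (hker ▸ hw)⟩
  have hθ : ∀ d : DD, θ (π d) = π (tau h d) := fun d =>
    MonoidHom.liftOfRightInverse_comp_apply _ _ _ _ d
  have hθs : Function.Surjective θ := fun x => by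
    obtain ⟨d, rfl⟩ := hπs x
    exact ⟨π (tau h d), by rw [hθ, tau_tau h h2]⟩
  have hθF : ∀ f ∈ F, θ f ∈ F := fun f hf =>
    Cores.map_fittingSubgroup_le θ hθs (Subgroup.mem_map_of_mem θ hf)
  have hθθ : ∀ x, θ (θ x) = x := fun x => by
    obtain ⟨d, rfl⟩ := hπs x
    rw [hθ, hθ, tau_tau h h2]
  have hfix_V : ∀ d : DD, θ (π d) = π d → (π d) • s₀ = s₀ := by
    intro d hd
    rw [hθ] at hd
    have h1 := commute_of_rho_tau h h2 (congrArg Subtype.val hd)
    have h4 := (commute_iff h hs hr he d.2).1 h1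
    refine Additive.toMul.injective (Subtype.ext ?_)
    show (d : G) * s * (d : G)⁻¹ = s
    rw [← h4, mul_inv_cancel_right]
  have hinvF : ∀ f ∈ F, θ f = f⁻¹ := by
    intro f hf
    have hg : f * θ f ∈ F := mul_mem hf (hθF f hf)
    have e : θ (f * θ f) = f * θ f := by rw [map_mul, hθθ, hc _ (hθF f hf) f hf]
    obtain ⟨d, hd⟩ := hπs (f * θ f)
    have h1 := hfix_V d (by rw [hd, e])
    rw [hd] at h1
    refine eq_inv_of_mul_eq_one_right ?_
    by_contra hne
    exact hs₀ (Transitive.fitting_semiregular hodd Nat.prime_two hE ht hg hne h1)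
  have hcent := Solvable.centralizer_fitting_le (Dbar h h2)
  have hKF : ∀ k : DD, (k : G) ∈ KK → π k ∈ F := by
    intro k hk
    have hθk : θ (π k) = (π k)⁻¹ := by
      rw [hθ, ← map_inv]
      exact congrArg π (Subtype.ext ((mem_kk h).1 hk).2)
    have h2c : π k * π k ∈ F := hcent (Subgroup.mem_centralizer_iff.2 fun f hf => by
      have hg : π k * f * (π k)⁻¹ ∈ F := (inferInstance : F.Normal).conj_mem f hf (π k)
      have e := hinvF _ hg
      rw [map_mul, map_mul, map_inv, hθk, hinvF f hf, inv_inv] at e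
      have e' := congrArg (fun z => π k * z⁻¹ * π k) e
      simp only [mul_inv_rev, inv_inv, mul_assoc, inv_mul_cancel, mul_one, mul_inv_cancel_left,
        inv_mul_cancel_left] at e'
      rw [mul_assoc]
      exact e')
    obtain ⟨n, hn⟩ := exists_pow_eq_self_of_coprime
      (Nat.Coprime.symm ((Nat.odd_iff.2 (Nat.odd_iff.1 (hodd.of_dvd_nat (orderOf_dvd_natCard (π k))))).coprime_two_right))
    rw [← hn, sq]
    exact pow_mem h2c n
  -- the bijection `K → F`
  let j : KK → F := fun k => ⟨π ⟨k, k.2.1⟩, hKF ⟨k, k.2.1⟩ k.2⟩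
  have hj : Function.Injective j := by
    intro k k' e
    have e' : rho h h2 ⟨k, k.2.1⟩ = rho h h2 ⟨k', k'.2.1⟩ := congrArg (fun z : F => (z.1 : MulAut (ee h h2))) e
    have e2 := congrArg Subtype.val (DFunLike.congr_fun (congrArg Inv.inv e') ⟨s, ii_subset_ee h h2 hs⟩)
    rw [← map_inv, ← map_inv, rho_apply, rho_apply] at e2
    simp only [InvMemClass.coe_inv, inv_inv] at e2
    exact Subtype.ext (conj_kk_inj h h2 hs k.2 k'.2 e2)
  have hcardF : Nat.card F ≤ Nat.card II := by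
    refine Nat.card_le_card_of_injective (fun f : F => (⟨(((f : Dbar h h2) • s₀).toMul : G),
      hII _ fun e => hs₀ ((smul_eq_zero_iff_eq _).1 e)⟩ : II)) ?_
    intro f f' e
    have e0 : (((f : Dbar h h2) • s₀).toMul : G) = (((f' : Dbar h h2) • s₀).toMul : G) := congrArg (fun z : II => (z : G)) e
    have e1 : (f : Dbar h h2) • s₀ = (f' : Dbar h h2) • s₀ := Additive.toMul.injective (Subtype.ext e0)
    by_contra hne
    refine hs₀ (Transitive.fitting_semiregular hodd Nat.prime_two hE ht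
      (mul_mem (inv_mem f'.2) f.2) (fun e2 => hne (Subtype.ext (inv_mul_eq_one.1 e2).symm)) ?_)
    rw [mul_smul, e1, inv_smul_smul]
  have hjb : Function.Bijective j := (Nat.bijective_iff_injective_and_card j).2
    ⟨hj, le_antisymm (Nat.card_le_card_of_injective j hj) (by rw [card_kk h]; exact hcardF)⟩
  obtain ⟨g, hg⟩ := IsCyclic.exists_generator (α := F)
  obtain ⟨⟨k₀, hk₀⟩, hk₀g⟩ := hjb.2 g
  have hzK : (Subgroup.zpowers k₀ : Set G) = KK := by
    ext k
    constructor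
    · intro hk
      obtain ⟨n, rfl⟩ := mem_zpowers_iff_mem_range_orderOf.1 hk |> fun h => Finset.mem_image.1 h |>.imp fun _ h => h.2
      exact kk_pow h hk₀ n
    · intro hk
      obtain ⟨n, hn⟩ := mem_powers_iff_mem_zpowers.2 (hg (j ⟨k, hk⟩))
      have hjk : j ⟨k₀ ^ n, kk_pow h hk₀ n⟩ = j ⟨k, hk⟩ := by
        rw [← hn, ← hk₀g]
        apply Subtype.ext
        rw [SubmonoidClass.coe_pow]
        show π _ = π _ ^ n
        rw [← map_pow]
        rfl
      have := congrArg Subtype.val (hjb.1 hjk)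
      simp only at this
      exact this ▸ pow_mem (Subgroup.mem_zpowers k₀) n
  refine ⟨k₀, hk₀, hzK, ?_, ?_⟩
  · intro d hd c hcz
    obtain ⟨k, hk, hks⟩ := exists_conj_kk h hs (conj_mem_ii_of_dd h hs (d := d) hd.1)
    have hv : d * k⁻¹ ∈ DD := mul_mem hd (inv_mem hk.1)
    have hvt : t * (d * k⁻¹) = d * k⁻¹ * t := (commute_iff h hs hr he hv).2 (by
      calc s * (d * k⁻¹) = d * (d⁻¹ * s * d) * k⁻¹ := by group
        _ = d * (k⁻¹ * s * k) * k⁻¹ := by rw [hks]
        _ = d * k⁻¹ * s := by group)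
    obtain ⟨v, hvd⟩ : ∃ v, v = d * k⁻¹ := ⟨_, rfl⟩
    have hkz : k ∈ Subgroup.zpowers k₀ := (hzK.symm ▸ hk : k ∈ (Subgroup.zpowers k₀ : Set G))
    have hcomm : k * c * k⁻¹ = c := by
      obtain ⟨i, rfl⟩ := Subgroup.mem_zpowers_iff.1 hkz
      obtain ⟨j', rfl⟩ := Subgroup.mem_zpowers_iff.1 hcz
      group
    have hcK : c ∈ KK := hzK ▸ hcz
    rw [show d * c * d⁻¹ = v * (k * c * k⁻¹) * v⁻¹ by rw [hvd]; group, hcomm, ← SetLike.mem_coe, hzK, hvd]
    refine (mem_kk h).2 ⟨mul_mem (mul_mem hv hcK.1) (inv_mem hv), ?_⟩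
    calc t * (d * k⁻¹ * c * (d * k⁻¹)⁻¹) * t
        = (t * (d * k⁻¹)) * c * (t * (d * k⁻¹))⁻¹ := by simp [mul_assoc, t_inv h]
      _ = d * k⁻¹ * (t * c * t) * (d * k⁻¹)⁻¹ := by rw [hvt]; simp [mul_assoc, t_inv h]
      _ = (d * k⁻¹ * c * (d * k⁻¹)⁻¹)⁻¹ := by rw [((mem_kk h).1 hcK).2]; group
  · -- `V/W` is cyclic
    set V := DD ⊓ Subgroup.centralizer {t} with hV
    set W := V ⊓ Subgroup.centralizer KK with hW
    let ι : V →* Dbar h h2 := π.comp (Subgroup.inclusion inf_le_left)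
    let c : V →* (Transitive.ring F E ≃+* Transitive.ring F E) := Transitive.conjAut.comp ι
    haveI : Finite (AddMonoid.End E) := Finite.of_injective
      (fun f : AddMonoid.End E => (f : E → E)) DFunLike.coe_injective
    have hkW : ∀ x : V, x ∈ c.ker → (x : G) ∈ W := by
      intro x hx
      have h1 : ι x ∈ F := hcent (Transitive.mem_centralizer_of_conjHom fun y =>
        RingEquiv.congr_fun (MonoidHom.mem_ker.1 hx) y)
      have h3 : t * (x : G) = x * t := (Subgroup.mem_centralizer_singleton_iff.1 x.2.2).symm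
      have h4 : ι x • s₀ = s₀ := by
        refine Additive.toMul.injective (Subtype.ext ?_)
        show (x : G) * s * (x : G)⁻¹ = s
        rw [← (commute_iff h hs hr he x.2.1).1 h3, mul_inv_cancel_right]
      have h5 : ι x = 1 := by
        by_contra hne
        exact hs₀ (Transitive.fitting_semiregular hodd Nat.prime_two hE ht h1 hne h4)
      have h6 : (⟨x, x.2.1⟩ : DD) ∈ (rho h h2).ker := MonoidHom.mem_ker.2 (congrArg Subtype.val h5)
      exact ⟨x.2, Subgroup.mem_centralizer_iff.2 fun k hk => (ker_facts h h2 h6).2 k hk⟩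
    haveI : IsCyclic c.range := by
      letI : Field (Transitive.ring F E) := (Transitive.isField hc ht).toField
      exact (Transitive.card_le_of_injective c.range.subtype c.range.subtype_injective).1
    obtain ⟨g', hg'⟩ := IsCyclic.exists_generator (α := c.range)
    obtain ⟨v, hv⟩ := g'.2
    refine ⟨v, v.2, le_antisymm (sup_le inf_le_left ((Subgroup.closure_le _).2 (Set.singleton_subset_iff.2 v.2))) fun x hx => ?_⟩
    obtain ⟨i, hi⟩ := Subgroup.mem_zpowers_iff.1 (hg' ⟨c ⟨x, hx⟩, ⟨x, hx⟩, rfl⟩)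
    have hmem := hkW (⟨x, hx⟩ * (v ^ i)⁻¹) (by
      rw [MonoidHom.mem_ker, map_mul, map_inv, map_zpow, hv, ← SubgroupClass.coe_zpow, hi, mul_inv_cancel])
    have e : x = (((⟨x, hx⟩ : V) * (v ^ i)⁻¹ : V) : G) * (v : G) ^ i := by simp
    rw [e]
    exact Subgroup.mul_mem_sup hmem (zpow_mem (Subgroup.mem_closure_singleton_self _) i)

/-- S1132: a Sylow 2-subgroup of `Q` is abelian or a Suzuki 2-group. -/
theorem abelian_or_suzuki (hFT : OddSolvable.{u}) (S : Sylow 2 ↥Q) :
    IsMulCommutative (S : Subgroup ↥Q) ∨ Cfsg.IsSuzukiTwoGroup ↥(S : Subgroup ↥Q) := by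
  by_cases hcomm : IsMulCommutative (S : Subgroup ↥Q)
  · exact Or.inl hcomm
  haveI := isNilpotent h h2
  haveI : Fact (Nat.Prime 2) := ⟨Nat.prime_two⟩
  haveI hSn : (S : Subgroup Q).Normal :=
    Sylow.normal_of_normalizerCondition Group.normalizerCondition_of_isNilpotent S
  haveI := Sylow.characteristic_of_normal S hSn
  have hnc : ∃ x y : (S : Subgroup Q), x * y ≠ y * x := by
    by_contra hcon
    push Not at hcon
    exact hcomm ⟨⟨hcon⟩⟩
  obtain ⟨k₀, hk₀, hzK, -, -⟩ := main h h2 hFT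
  have hinS : ∀ u : G, u ∈ II → ∃ x : (S : Subgroup Q), ((x : Q) : G) = u := by
    intro u hu
    let u' : Q := ⟨u, mem_Q_of_ii h hu⟩
    haveI := Sylow.unique_of_normal S hSn
    obtain ⟨T, hT⟩ := IsPGroup.exists_le_sylow (P := Subgroup.zpowers u')
      (IsPGroup.of_card (p := 2) (n := 1) (by
        rw [Nat.card_zpowers, pow_one, ← Subgroup.orderOf_coe]
        exact orderOf_eq_prime (by rw [sq]; exact hu.2.2) hu.2.1))
    rw [Subsingleton.elim T S] at hT
    exact ⟨⟨u', hT (Subgroup.mem_zpowers u')⟩, rfl⟩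
  have hC : ∀ c ∈ Subgroup.zpowers k₀, c ∈ Subgroup.normalizer (Q : Set G) := fun c hc =>
    mem_normalizer_Q h h2 ((hzK ▸ hc : c ∈ KK)).1.1
  let ψ : Subgroup.zpowers k₀ →* MulAut Q :=
    (Subgroup.normalizerMonoidHom Q).comp (Subgroup.inclusion hC)
  let res : MulAut Q →* MulAut (S : Subgroup Q) :=
    { toFun := fun f =>
        { toFun := fun x => ⟨f x, (Subgroup.characteristic_iff_le_comap.1 inferInstance f) x.2⟩
          invFun := fun x => ⟨f.symm x, (Subgroup.characteristic_iff_le_comap.1 inferInstance f.symm) x.2⟩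
          left_inv := fun x => Subtype.ext (f.symm_apply_apply x)
          right_inv := fun x => Subtype.ext (f.apply_symm_apply x)
          map_mul' := fun x y => Subtype.ext (map_mul f (x : Q) y) }
      map_one' := rfl
      map_mul' := fun f g => rfl }
  let χ := res.comp ψ
  have hχ : ∀ (c : Subgroup.zpowers k₀) (x : (S : Subgroup Q)),
      (((χ c x) : Q) : G) = (c : G) * ((x : Q) : G) * (c : G)⁻¹ := fun c x => rfl
  refine Or.inr ⟨inferInstance, S.2, hnc, ?_, χ.range, ?_, ?_⟩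
  · obtain ⟨u, u', hu, hu', hne⟩ := exists_two_ii h h2
    obtain ⟨x, hx⟩ := hinS u hu
    obtain ⟨y, hy⟩ := hinS u' hu'
    refine ⟨x, y, fun e => hne (by rw [← hx, ← hy, e]), fun e => hu.2.1 (by rw [← hx, e]; rfl), ?_,
      fun e => hu'.2.1 (by rw [← hy, e]; rfl), ?_⟩
    · exact Subtype.ext (Subtype.ext (by show ((x : Q) : G) * (x : Q) = 1; rw [hx]; exact hu.2.2))
    · exact Subtype.ext (Subtype.ext (by show ((y : Q) : G) * (y : Q) = 1; rw [hy]; exact hu'.2.2))
  · exact isCyclic_of_surjective χ.rangeRestrict χ.rangeRestrict_surjective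
  · intro x y hx1 hx2 hy1 hy2
    have hI : ∀ z : (S : Subgroup Q), z ≠ 1 → z * z = 1 → ((z : Q) : G) ∈ II := fun z h1 h3 =>
      ⟨h.le (z : Q).2, fun e => h1 (Subtype.ext (Subtype.ext e)),
        congrArg (fun w : (S : Subgroup Q) => ((w : Q) : G)) h3⟩
    obtain ⟨k, hk, hks⟩ := exists_conj_kk h (hI x hx1 hx2) (hI y hy1 hy2)
    have hkz : k⁻¹ ∈ Subgroup.zpowers k₀ := inv_mem (hzK.symm ▸ hk : k ∈ (Subgroup.zpowers k₀ : Set G))
    refine ⟨⟨χ ⟨k⁻¹, hkz⟩, ⟨k⁻¹, hkz⟩, rfl⟩, Subtype.ext (Subtype.ext ?_), ?_⟩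
    · rw [hχ]; show k⁻¹ * _ * k⁻¹⁻¹ = _
      rw [inv_inv, hks]
    · rintro ⟨f, c, rfl⟩ hf
      apply Subtype.ext
      show χ c = χ ⟨k⁻¹, hkz⟩
      congr 1
      apply Subtype.ext
      have hcK : (c : G)⁻¹ ∈ KK := hzK ▸ inv_mem c.2
      have e := congrArg (fun w : (S : Subgroup Q) => ((w : Q) : G)) hf
      simp only [hχ] at e
      have := conj_kk_inj h h2 (hI x hx1 hx2) hcK hk (by rw [inv_inv, e, hks])
      show (c : G) = k⁻¹
      rw [← this, inv_inv]

end Cfsg.Agent.FTUse.RankOne
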