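import Cfsg.Agent.EqLemmas
import Cfsg.Prelude.Def_HallClasses
import Cfsg.Agent.Lib.Solvable.Hall

/-!
# Consequences of the odd order theorem for Hall subgroups

Everything here takes the statement of the odd order theorem as a hypothesis.
-/

set_option autoImplicit false

open Pointwise

namespace Cfsg.Agent.FTUse

universe u

/-- The statement of the odd order theorem. -/
def OddSolvable : Prop :=
  ∀ (G : Type u) [Group G] [Finite G], Odd (Nat.card G) → Group.IsSolvable G

open Cfsg.Agent.Solvable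

variable {G : Type u} [Group G] [Finite G] {π : Set ℕ}

theorem odd_card_of_isPiNum {σ : Set ℕ} {n : ℕ} (h : IsPiNum σ n) (h2 : 2 ∉ σ) : Odd n := by
  rw [Nat.odd_iff]
  by_contra hc
  exact h2 (h 2 Nat.prime_two (by omega))

theorem hallHyp (hFT : OddSolvable.{u}) (π : Set ℕ) (G : Type u) [Group G] [Finite G] :
    HallHyp π G := by
  by_cases h2 : (2 : ℕ) ∈ π
  · exact Or.inr fun U hU => hFT U (odd_card_of_isPiNum hU (fun h => h h2))
  · exact Or.inl fun U hU => hFT U (odd_card_of_isPiNum hU h2)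

/-- Hall's theorems for π-separable groups. -/
theorem hall (hFT : OddSolvable.{u}) (hsep : IsPiSeparable π G) :
    (∃ K : Subgroup G, Cfsg.IsPiHall π K) ∧
      (∀ K L : Subgroup G, Cfsg.IsPiHall π K → Cfsg.IsPiHall π L → ∃ g : G, MulAut.conj g • K = L) ∧
      ∀ U : Subgroup G, IsPiNum π (Nat.card U) → ∃ K : Subgroup G, Cfsg.IsPiHall π K ∧ U ≤ K :=
  have hyp := hallHyp hFT π G
  ⟨exists_piHall hsep hyp, fun _ _ hK hL => piHall_conj hsep hyp hK hL,
    fun _ hU => exists_piHall_ge hsep hyp hU⟩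

/-- Conjugacy of complements in an extension of coprime order. -/
theorem schurZassenhaus_conj (hFT : OddSolvable.{u}) {N : Subgroup G} [N.Normal] {H K : Subgroup G}
    (hs : H ⊔ N = K ⊔ N) (hH : (Nat.card H).Coprime (Nat.card N)) (hK : (Nat.card K).Coprime (Nat.card N)) :
    ∃ n ∈ N, MulAut.conj n • H = K := by
  refine exists_conj_of_sup_eq ?_ hs hH hK
  rcases Nat.even_or_odd (Nat.card N) with he | ho
  · refine Or.inr (hFT H ?_)
    rw [← Nat.not_even_iff_odd]
    intro h2
    exact Nat.not_coprime_of_dvd_of_dvd (by norm_num) (even_iff_two_dvd.1 h2) (even_iff_two_dvd.1 he) hH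
  · exact Or.inl (hFT N ho)

theorem relIndex_sup_normal (H N : Subgroup G) [N.Normal] : H.relIndex (H ⊔ N) = H.relIndex N := by
  have h1 := Solvable.card_sup_mul_card_inf H N
  have h2 := Subgroup.relIndex_mul_relIndex ⊥ (H ⊓ N) N bot_le inf_le_right
  rw [Subgroup.relIndex_bot_left, Subgroup.relIndex_bot_left, Subgroup.inf_relIndex_right] at h2
  have h3 := Subgroup.relIndex_mul_relIndex ⊥ H (H ⊔ N) bot_le le_sup_left
  rw [Subgroup.relIndex_bot_left, Subgroup.relIndex_bot_left] at h3
  rw [← h2, ← h3] at h1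
  refine Nat.eq_of_mul_eq_mul_left (n := Nat.card H * Nat.card ↥(H ⊓ N))
    (Nat.mul_pos Nat.card_pos Nat.card_pos) ?_
  linarith

/-- The normaliser, in an extension `L` of `A` by a π-group, of a Hall π-subgroup of `A` is π-separable. -/
theorem isPiSeparable_normalizer {A L HA : Subgroup G} [A.Normal] (hAL : A ≤ L)
    (hHA : Cfsg.IsPiHallOf π HA A) (hL : IsPiNum π (A.relIndex L)) :
    IsPiSeparable π ↥(Subgroup.normalizer (HA : Set G) ⊓ L) := by
  set N := Subgroup.normalizer (HA : Set G) ⊓ L with hN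
  have hHN : HA ≤ N := le_inf Subgroup.le_normalizer (hHA.1.trans hAL)
  let B : Subgroup N := HA.subgroupOf N
  let C : Subgroup N := A.subgroupOf N
  have hB : B.Normal := Subgroup.normal_subgroupOf_of_le_normalizer inf_le_left
  have hC : C.Normal := inferInstance
  have hBC : B ≤ C := Subgroup.comap_mono hHA.1
  refine isPiSeparable_of_chain (n := 3) ![⊥, B, C, ⊤] rfl rfl ?_ ?_
  · intro i; fin_cases i <;> simp <;> infer_instance
  · intro i
    fin_cases i
    · left
      simpa [B, Nat.card_congr (Subgroup.subgroupOfEquivOfLe hHN).toEquiv, IsPiNum] using hHA.2.1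
    · right
      intro p hp hd hpπ
      refine hHA.2.2 p hp hpπ (dvd_trans ?_ (dvd_refl _))
      simp [B, C] at hd
      rw [Subgroup.subgroupOf, Subgroup.relIndex_comap, Subgroup.subgroupOf_map_subtype] at hd
      exact hd.trans (Dvd.intro _ (Subgroup.relIndex_mul_relIndex HA (A ⊓ N) A (le_inf hHA.1 hHN) inf_le_left))
    · left
      simp [C, Subgroup.relIndex_top_right]
      refine hL.of_dvd ?_
      exact (show (A.subgroupOf N).index = A.relIndex N from rfl) ▸ relIndex_dvd_relIndex_of_normal inf_le_right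

/-- Hall: an extension of a `C_π`-group by a `C_π`-group is a `C_π`-group. -/
theorem isCPiGroup_extension (hFT : OddSolvable.{u}) (π : Set ℕ) (A : Subgroup G) [A.Normal]
    (hA : Cfsg.IsCPiGroup π ↥A) (hQ : Cfsg.IsCPiGroup π (G ⧸ A)) : Cfsg.IsCPiGroup π G := by
  obtain ⟨⟨HA₀, hHA₀⟩, hAconj⟩ := hA
  obtain ⟨⟨Hb, hHb⟩, hQconj⟩ := hQ
  -- conjugacy inside `A` of Hall subgroups of `A`
  have hAc : ∀ H K : Subgroup G, Cfsg.IsPiHallOf π H A → Cfsg.IsPiHallOf π K A →
      ∃ a ∈ A, MulAut.conj a • H = K := by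
    intro H K hH hK
    obtain ⟨a, ha⟩ := hAconj _ _ (isPiHall_subgroupOf hH) (isPiHall_subgroupOf hK)
    refine ⟨a, a.2, ?_⟩
    rw [← conj_eq_map] at ha
    have h := congrArg (Subgroup.map A.subtype) ha
    rw [Solvable.map_conj, Subgroup.map_subgroupOf_eq_of_le hH.1, Subgroup.map_subgroupOf_eq_of_le hK.1] at h
    exact h.symm
  obtain ⟨L, hAL, rfl⟩ := exists_eq_map_mk' A Hb
  have hLidx : (L.map (QuotientGroup.mk' A)).index = L.index :=
    Subgroup.index_map_eq L (QuotientGroup.mk'_surjective A) (by rwa [QuotientGroup.ker_mk'])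
  have hidx : A.relIndex L = Nat.card ↥(L.map (QuotientGroup.mk' A)) := by
    rw [← Subgroup.relIndex_ker, QuotientGroup.ker_mk']
  set HA := HA₀.map A.subtype with hHAdef
  have hHA : Cfsg.IsPiHallOf π HA A := isPiHallOf_map_subtype hHA₀
  refine ⟨?_, ?_⟩
  · -- existence
    have hsep := isPiSeparable_normalizer hAL hHA (hidx ▸ (isPiHall_iff.1 hHb).1)
    set N := Subgroup.normalizer (HA : Set G) ⊓ L with hN
    obtain ⟨K, hK⟩ := (hall hFT hsep).1
    -- Frattini: `L = A N`
    have hfr : N ⊔ A = L := by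
      refine le_antisymm (sup_le inf_le_right hAL) fun l hl => ?_
      have hconj : Cfsg.IsPiHallOf π (MulAut.conj l • HA) A := by
        refine ⟨conj_normal l A ▸ conj_mono l hHA.1, by rw [card_conj]; exact hHA.2.1, ?_⟩
        have e : (MulAut.conj l • HA).relIndex A = HA.relIndex A := by
          conv_lhs => rw [← conj_normal l A]
          exact Subgroup.relIndex_pointwise_smul _ _ _
        rw [e]
        exact hHA.2.2
      obtain ⟨a, ha, hal⟩ := hAc HA _ hHA hconj
      have hn : a⁻¹ * l ∈ Subgroup.normalizer (HA : Set G) := by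
        rw [mem_normalizer_iff_conj, ← conj_conj]
        exact eq_conj_inv hal
      rw [sup_comm]
      simpa using Subgroup.mul_mem_sup ha
        (show a⁻¹ * l ∈ N from Subgroup.mem_inf.2 ⟨hn, L.mul_mem (L.inv_mem (hAL ha)) hl⟩)
    refine ⟨K.map N.subtype, isPiHall_iff.2 ⟨by
      rw [Subgroup.card_map_of_injective N.subtype_injective]; exact (isPiHall_iff.1 hK).1, ?_⟩⟩
    intro p hp hd hpπ
    rw [Subgroup.index_map_subtype] at hd
    rcases hp.dvd_mul.1 hd with hd | hd
    · exact hK.2 p hp hpπ hd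
    · -- `|G : N| = |G : L| |A : A ∩ N|`
      rw [← Subgroup.relIndex_mul_index (inf_le_right : N ≤ L)] at hd
      rcases hp.dvd_mul.1 hd with hd | hd
      · have e : N.relIndex L = N.relIndex A := by
          conv_lhs => rw [← hfr]
          exact relIndex_sup_normal N A
        rw [e] at hd
        refine hHA.2.2 p hp hpπ (hd.trans ?_)
        exact Subgroup.relIndex_dvd_of_le_left A (le_inf Subgroup.le_normalizer (hHA.1.trans hAL))
      · exact hHb.2 p hp hpπ (hLidx ▸ hd)
  · intro H K hH hK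
    simp only [← conj_eq_map]
    obtain ⟨g', hg⟩ := hQconj _ _ (isPiHall_map hH (QuotientGroup.mk'_surjective A))
      (isPiHall_map hK (QuotientGroup.mk'_surjective A))
    obtain ⟨g, rfl⟩ := QuotientGroup.mk'_surjective A g'
    rw [← conj_eq_map, ← Solvable.map_conj] at hg
    have hsup := sup_eq_sup_of_map_eq hg
    obtain ⟨a, ha, hHK⟩ := hAc _ _ (isPiHall_inf_normal (N := A) (isPiHall_conj hH g))
      (isPiHall_inf_normal (N := A) hK)
    set H₁ := MulAut.conj a • MulAut.conj g • H with hH₁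
    have hH₁A : H₁ ⊓ A = K ⊓ A := by
      rw [← hHK, hH₁, Subgroup.smul_inf, conj_normal a A]
    set L₁ := K ⊔ A with hL₁
    have hH₁L : H₁ ≤ L₁ := by
      have : MulAut.conj a • MulAut.conj g • H ≤ MulAut.conj a • L₁ :=
        conj_mono a (hsup.symm ▸ le_sup_left)
      rwa [conj_eq_self (show a ∈ L₁ from Subgroup.mem_sup_right ha)] at this
    have hsep := isPiSeparable_normalizer (L := L₁) le_sup_right (isPiHall_inf_normal (N := A) hK) (by
      rw [hL₁, Subgroup.relIndex_sup_right]
      exact (isPiHall_iff.1 hK).1.of_dvd (Subgroup.relIndex_dvd_card _ _))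
    set N := Subgroup.normalizer ((K ⊓ A : Subgroup G) : Set G) ⊓ L₁ with hN
    have hle : ∀ {X : Subgroup G}, X ≤ L₁ → X ⊓ A = K ⊓ A → X ≤ N := by
      intro X hX hXA x hx
      refine ⟨?_, hX hx⟩
      show x ∈ Subgroup.normalizer _
      rw [← hXA, mem_normalizer_iff_conj, Subgroup.smul_inf, conj_normal x A, conj_eq_self hx]
    have hKN := hle (X := K) le_sup_left rfl
    have hH₁N := hle hH₁L hH₁A
    have hsub : ∀ {X : Subgroup G}, Cfsg.IsPiHall π X → X ≤ N → Cfsg.IsPiHall π (X.subgroupOf N) := by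
      intro X hX hXN
      refine isPiHall_subgroupOf ⟨hXN, hX.1, fun p hp hpπ hd => hX.2 p hp hpπ ?_⟩
      exact hd.trans (Subgroup.relIndex_dvd_index_of_le hXN)
    obtain ⟨n, hn⟩ := (hall hFT hsep).2.1 _ _ (hsub (isPiHall_conj (isPiHall_conj hH g) a) hH₁N) (hsub hK hKN)
    have h := congrArg (Subgroup.map N.subtype) hn
    rw [Solvable.map_conj, Subgroup.map_subgroupOf_eq_of_le hH₁N, Subgroup.map_subgroupOf_eq_of_le hKN] at h
    refine ⟨n * a * g, ?_⟩
    rw [← h, hH₁, conj_conj, conj_conj, mul_assoc]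
    simp [mul_assoc]

end Cfsg.Agent.FTUse
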