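import Cfsg.Prelude.Def_Perm
import Cfsg.Agent.Lib.FTUse.Field
import Cfsg.Agent.Lib.Perm.Regular
import Cfsg.Agent.S0735
import Mathlib.FieldTheory.Finite.GaloisField

/-!
# S1161 and S0737 modulo the odd order theorem
-/

set_option autoImplicit false

namespace Cfsg.Agent.FTUse

universe u v

theorem fitting_transitive (hFT : OddSolvable.{u}) {D : Type u} {E : Type v} [Group D] [Finite D]
    [AddCommGroup E] [Finite E] [Nontrivial E] [DistribMulAction D E] [FaithfulSMul D E]
    (hodd : Odd (Nat.card D)) {q : ℕ} (hq : q.Prime) (hE : ∀ e : E, q • e = 0)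
    (htrans : ∀ a b : E, a ≠ 0 → b ≠ 0 → ∃ d : D, d • a = b) :
    IsCyclic ↥(Cfsg.fittingSubgroup D) ∧
      (∀ g ∈ Cfsg.fittingSubgroup D, g ≠ 1 → ∀ a : E, g • a = a → a = 0) ∧
      commutator D ≤ Cfsg.fittingSubgroup D := by
  have hsol := hFT D hodd
  have ht : Transitive.SignTrans D E := fun a b ha hb => (htrans a b ha hb).imp fun _ h => Or.inl h
  exact ⟨Transitive.fitting_isCyclic hodd hq hE ht,
    fun g hg hg1 a ha => Transitive.fitting_semiregular hodd hq hE ht hg hg1 ha,
    Transitive.commutator_le_fitting hodd hq hE ht⟩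

section TwoHomog

open MulAction
open scoped Pointwise

variable {α : Type u} [Fintype α] [DecidableEq α] (G : Subgroup (Equiv.Perm α))

theorem three_le_of (hne : G ≠ ⊥) (hn2 : ¬ IsMultiplyPretransitive G α 2) : 3 ≤ Fintype.card α := by
  by_contra hlt
  obtain ⟨g, hg, hg1⟩ : ∃ g ∈ G, g ≠ 1 := by
    by_contra h
    push Not at h
    exact hne ((Subgroup.eq_bot_iff_forall G).2 h)
  obtain ⟨x, hx⟩ : ∃ x, g x ≠ x := by
    by_contra h
    push Not at h
    exact hg1 (Equiv.ext h)
  have hall : ∀ z, z = x ∨ z = g x := by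
    intro z
    by_contra h
    rw [not_or] at h
    have : ({z, x, g x} : Finset α).card = 3 := Finset.card_eq_three.2 ⟨z, x, g x, h.1, h.2, hx.symm, rfl⟩
    exact hlt (this ▸ Finset.card_le_univ _)
  have hgg : g (g x) = x := (hall _).resolve_right fun e => hx (g.injective e)
  refine hn2 (is_two_pretransitive_iff.2 ?_)
  intro a b c d hab hcd
  have hpair : ∀ {y z w : α}, y ≠ w → z ≠ w → y = z := fun {y z w} h1 h3 => by
    rcases hall y with ey | ey <;> rcases hall z with ez | ez <;> rcases hall w with ew | ew <;>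
      first
        | exact ey.trans ez.symm
        | exact absurd (ey.trans ew.symm) h1
        | exact absurd (ez.trans ew.symm) h3
  have hmove : ∀ y, g y ≠ y := fun y => by
    rcases hall y with rfl | rfl
    · exact hx
    · rw [hgg]; exact hx.symm
  by_cases hac : a = c
  · exact ⟨1, by rw [one_smul, hac], by
      rw [one_smul]; exact hpair hab.symm (hac ▸ hcd.symm)⟩
  · have h1 : g a = c := hpair (hmove a) (Ne.symm hac)
    refine ⟨⟨g, hg⟩, h1, hpair (w := c) (fun e => hab (g.injective (h1.trans e.symm))) hcd.symm⟩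

theorem two_homogeneous (hFT : OddSolvable.{u}) (hne : G ≠ ⊥)
    (h2 : IsPretransitive G (Set.powersetCard α 2)) (hn2 : ¬ IsMultiplyPretransitive G α 2) :
    Odd (Nat.card G) ∧ ∃ (p f : ℕ) (_ : Fact p.Prime), p ≠ 2 ∧ Fintype.card α = p ^ f ∧ p ^ f % 4 = 3 ∧
      ∃ e : α ≃ GaloisField p f,
        (∀ g : G, e.symm.trans (((g : Equiv.Perm α)).trans e) ∈ Cfsg.semiaffineGroup (GaloisField p f)) ∧
        ∀ b : GaloisField p f, ∃ g : G, ∀ x : α, e ((g : Equiv.Perm α) x) = e x + b := by
  have hα := three_le_of G hne hn2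
  obtain ⟨heven, hprim⟩ := S0735.result G h2 hα
  haveI := hprim hne
  have hodd : Odd (Nat.card G) := Nat.not_even_iff_odd.1 fun h => hn2 (heven h)
  have hsol : Group.IsSolvable G := hFT G hodd
  haveI : Nonempty α := Fintype.card_pos_iff.1 (by omega)
  obtain ⟨a⟩ := (inferInstance : Nonempty α)
  have htopne : (⊤ : Subgroup G) ≠ ⊥ := fun e => hne ((Subgroup.eq_bot_iff_forall G).2 fun g hg =>
    congrArg Subtype.val (Subgroup.mem_bot.1
      (show (⟨g, hg⟩ : G) ∈ (⊥ : Subgroup G) from e ▸ Subgroup.mem_top (⟨g, hg⟩ : G))))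
  obtain ⟨p, hp, M, hMn, hM0, -, hMc, hMp, hMexp, -⟩ := Solvable.exists_minimal_normal_pGroup (N := (⊤ : Subgroup G)) htopne
  haveI := Fact.mk hp
  have htM := Perm.isPretransitive_of_normal_ne_bot (G := G) (X := α) hM0
  have hreg : ∀ x : α, stabilizer M x = ⊥ := fun x => Perm.stabilizer_eq_bot_of_isMulCommutative htM hMc x
  have hcardM : Nat.card M = Fintype.card α := by
    rw [Perm.card_eq_of_regular htM hreg, Nat.card_eq_fintype_card]
  obtain ⟨f, hf⟩ := hMp.exists_card_eq
  -- parity of the degree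
  have h4 : Fintype.card α % 4 = 3 := by
    have hn : Odd (Fintype.card α) := hcardM ▸ hodd.of_dvd_nat (Subgroup.card_subgroup_dvd_card M)
    haveI := h2
    haveI : Nonempty (Set.powersetCard α 2) := by
      obtain ⟨x, y, hxy⟩ := Fintype.exists_pair_of_one_lt_card (α := α) (by omega)
      exact ⟨⟨{x, y}, Finset.card_pair hxy⟩⟩
    have hd : Nat.card (Set.powersetCard α 2) ∣ Nat.card G := by
      obtain ⟨s⟩ := (inferInstance : Nonempty (Set.powersetCard α 2))
      rw [← index_stabilizer_of_transitive G s]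
      exact Subgroup.index_dvd_card _
    rw [Set.powersetCard.card, Nat.card_eq_fintype_card, Nat.choose_two_right] at hd
    rw [Nat.odd_iff] at hn
    have hm := Nat.odd_iff.1 (hodd.of_dvd_nat hd)
    generalize hN : Fintype.card α = n at hn hm ⊢
    by_contra hc
    obtain ⟨k, rfl⟩ : ∃ k, n = 4 * k + 1 := ⟨n / 4, by omega⟩
    have e1 : (4 * k + 1) * (4 * k + 1 - 1) / 2 = (4 * k + 1) * (2 * k) := by
      rw [Nat.add_sub_cancel, show 4 * k = (2 * k) * 2 by ring, ← mul_assoc, Nat.mul_div_cancel _ two_pos]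
    rw [e1, show (4 * k + 1) * (2 * k) = 2 * ((4 * k + 1) * k) by ring, Nat.mul_mod_right] at hm
    omega
  -- the linear model
  letI : CommGroup M := { (inferInstance : Group M) with mul_comm := hMc.is_comm.comm }
  let D := stabilizer G a
  letI act : DistribMulAction D (Additive M) :=
    { smul := fun d m => Additive.ofMul (MulAut.conjNormal (d : G) m.toMul)
      one_smul := fun m => by show Additive.ofMul (MulAut.conjNormal ((1 : D) : G) m.toMul) = m; simp
      mul_smul := fun c d m => by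
        show Additive.ofMul (MulAut.conjNormal ((c * d : D) : G) m.toMul) =
          Additive.ofMul (MulAut.conjNormal (c : G) (MulAut.conjNormal (d : G) m.toMul))
        simp [Subgroup.coe_mul, map_mul, MulAut.mul_apply]
      smul_zero := fun d => by show Additive.ofMul (MulAut.conjNormal (d : G) 1) = 0; simp
      smul_add := fun d m m' => by
        show Additive.ofMul (MulAut.conjNormal (d : G) (m.toMul * m'.toMul)) = _
        rw [map_mul]; rfl }
  let φ : Additive M → α := fun m => m.toMul • a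
  have hφ : Function.Bijective φ :=
    (Perm.bijective_smul_of_regular htM hreg a).comp Additive.toMul.bijective
  have hφd : ∀ (d : D) (m : Additive M), φ (d • m) = (d : G) • φ m := by
    intro d m
    show ((MulAut.conjNormal (d : G) m.toMul : M) : G) • a = (d : G) • (m.toMul : G) • a
    rw [MulAut.conjNormal_apply, Perm.conj_smul_of_fix _ d.2]
  have hφadd : ∀ (m m' : Additive M), φ (m + m') = (m.toMul : G) • φ m' := fun m m' =>
    mul_smul (m.toMul : G) (m'.toMul : G) a
  haveI : FaithfulSMul D (Additive M) := ⟨fun {c d} h => Subtype.ext (eq_of_smul_eq_smul (α := α) fun x => by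
    obtain ⟨m, rfl⟩ := hφ.2 x
    rw [← hφd, ← hφd, h])⟩
  have hE : ∀ e : Additive M, p • e = 0 := fun e => by
    apply Additive.toMul.injective
    rw [toMul_nsmul, toMul_zero]
    exact Subtype.ext (hMexp _ e.toMul.2)
  haveI : Nontrivial (Additive M) := by
    haveI := Subgroup.nontrivial_iff_ne_bot M |>.2 hM0
    infer_instance
  have hoddD : Odd (Nat.card D) := hodd.of_dvd_nat (Subgroup.card_subgroup_dvd_card D)
  have ht : Transitive.SignTrans D (Additive M) := by
    intro u w hu hw
    have hu' : φ u ≠ a := fun e => hu (hφ.1 (e.trans (one_smul _ a).symm))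
    have hw' : φ w ≠ a := fun e => hw (hφ.1 (e.trans (one_smul _ a).symm))
    haveI := h2
    obtain ⟨g, hg⟩ := exists_smul_eq G (⟨{a, φ u}, Finset.card_pair hu'.symm⟩ : Set.powersetCard α 2)
      ⟨{a, φ w}, Finset.card_pair hw'.symm⟩
    have hg' : ({g • a, g • φ u} : Finset α) = {a, φ w} := by
      have : g • ({a, φ u} : Finset α) = {a, φ w} := congrArg Subtype.val hg
      simpa [Finset.smul_finset_insert, Finset.smul_finset_singleton] using this
    have h1 : g • a ∈ ({a, φ w} : Finset α) := hg' ▸ Finset.mem_insert_self _ _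
    have h3 : g • φ u ∈ ({a, φ w} : Finset α) :=
      hg' ▸ Finset.mem_insert_of_mem (Finset.mem_singleton_self _)
    have hne' : g • a ≠ g • φ u := fun e => hu' (MulAction.injective g e).symm
    simp only [Finset.mem_insert, Finset.mem_singleton] at h1 h3
    rcases h1 with h1 | h1 <;> rcases h3 with h3 | h3
    · exact absurd (h1.trans h3.symm) hne'
    · exact ⟨⟨g, h1⟩, Or.inl (hφ.1 (by rw [hφd]; exact h3))⟩
    · have hd : (((-w).toMul : G) * g) • a = a := by
        rw [mul_smul, h1, ← hφadd, neg_add_cancel]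
        exact one_smul _ a
      refine ⟨⟨_, hd⟩, Or.inr (hφ.1 ?_)⟩
      rw [hφd]
      show (((-w).toMul : G) * g) • φ u = φ (-w)
      rw [mul_smul, h3]
      rfl
    · exact absurd (h1.trans h3.symm) hne'
  haveI := hFT D hoddD
  haveI := Transitive.fitting_isCyclic hoddD hp hE ht
  set F := Cfsg.fittingSubgroup D with hFdef
  have hc : ∀ x ∈ F, ∀ y ∈ F, x * y = y * x := fun x hx y hy =>
    congrArg Subtype.val ((IsCyclic.isMulCommutative (α := F)).is_comm.comm ⟨x, hx⟩ ⟨y, hy⟩)
  have hf0 : f ≠ 0 := fun e => by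
    rw [e, pow_zero, hcardM] at hf; omega
  obtain ⟨e₀, he₀⟩ := Transitive.exists_semilinear hc ht (Solvable.centralizer_fitting_le D) hf0
    ((Nat.card_congr Additive.toMul).trans hf)
  let Φ : Additive M ≃ α := Equiv.ofBijective φ hφ
  let e : α ≃ GaloisField p f := Φ.symm.trans e₀.toEquiv
  have he : ∀ u, e (φ u) = e₀ u := fun u => congrArg e₀ (Equiv.ofBijective_symm_apply_apply φ hφ u)
  have htr : ∀ (m : M) (x : α), e ((m : G) • x) = e x + e₀ (Additive.ofMul m) := by
    intro m x
    obtain ⟨u, rfl⟩ := hφ.2 x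
    have h1 : φ (Additive.ofMul m + u) = (m : G) • φ u := hφadd _ u
    rw [← h1, he, he, map_add, add_comm]
  refine ⟨hodd, p, f, inferInstance, ?_, by rw [← hcardM, hf], by rw [← hf, hcardM, h4], e, ?_, ?_⟩
  · rintro rfl
    have h5 := hcardM.symm.trans hf
    obtain ⟨k, hk⟩ := Nat.exists_eq_succ_of_ne_zero hf0
    rw [hk, pow_succ] at h5
    omega
  · intro g
    obtain ⟨m, hm⟩ := exists_smul_eq M a (g • a)
    have hd : ((m : G)⁻¹ * g) • a = a := by rw [mul_smul, ← hm]; exact inv_smul_smul (m : G) a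
    obtain ⟨r, σ, hr0, hr⟩ := he₀ ⟨_, hd⟩
    refine ⟨Units.mk0 r hr0, e₀ (Additive.ofMul m), σ, fun z => ?_⟩
    show e ((g : G) • e.symm z) = r * σ z + _
    obtain ⟨u, hu⟩ := hφ.2 (e.symm z)
    have hz : e₀ u = z := by rw [← he, hu, Equiv.apply_symm_apply]
    rw [← hu, ← hz, ← hr, ← he (_ • u), hφd, ← htr, ← mul_smul, mul_inv_cancel_left]
  · intro b
    refine ⟨(Additive.toMul (e₀.symm b) : M), fun x => ?_⟩
    have h1 := htr (Additive.toMul (e₀.symm b)) x
    rwa [ofMul_toMul, AddEquiv.apply_symm_apply] at h1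

end TwoHomog

end Cfsg.Agent.FTUse
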