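import Cfsg.Agent.Lib.FTUse.Hall
import Cfsg.Agent.Lib.Components.Basic
import Cfsg.Agent.Lib.Transfer.Residual

/-!
# S3915 modulo the odd order theorem

If cyclic `p`-subgroups of equal order are conjugate there is at most one component.
-/

set_option autoImplicit false

namespace Cfsg.Agent.FTUse

open Subgroup
open Cfsg.Agent.Components

universe u

variable {G : Type u} [Group G] [Finite G]

theorem exists_two_element_noncentral (hFT : OddSolvable.{u}) {L : Subgroup G} (hL : Cfsg.IsComponent L) :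
    ∃ u ∈ L, (∃ k, orderOf u = 2 ^ k) ∧ u ∉ centralizer (L : Set G) := by
  haveI : Fact (Nat.Prime 2) := ⟨Nat.prime_two⟩
  have heven : 2 ∣ Nat.card (L ⧸ center L) := by
    rw [← even_iff_two_dvd, ← Nat.not_odd_iff_even]
    intro ho
    haveI := hFT (L ⧸ center L) ho
    haveI : Group.IsSolvable (center L) := Group.isSolvable_of_comm fun a b => Subtype.ext (Subgroup.mem_center_iff.1 b.2 a)
    exact IsQuasisimple.not_isSolvable hL.2 (Group.isSolvable_of_ker_le_range (center L).subtype (QuotientGroup.mk' (center L)) (by simp))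
  obtain ⟨q, hq⟩ := exists_prime_orderOf_dvd_card' (G := L ⧸ center L) 2 heven
  obtain ⟨g, rfl⟩ := QuotientGroup.mk_surjective q
  obtain ⟨x, y, hxy, -, -, ⟨k, hk⟩, hy⟩ := Transfer.exists_pPart_mul (p := 2) g
  refine ⟨x, x.2, ⟨k, by rw [Subgroup.orderOf_coe, hk]⟩, fun hc => ?_⟩
  have hxc : x ∈ center L := Subgroup.mem_center_iff.2 fun l => Subtype.ext (Subgroup.mem_centralizer_iff.1 hc l l.2)
  have h1 : (QuotientGroup.mk g : L ⧸ center L) = QuotientGroup.mk' (center L) y := by
    rw [hxy, QuotientGroup.mk_mul, (QuotientGroup.eq_one_iff x).2 hxc, one_mul]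
    rfl
  have h2 := orderOf_map_dvd (QuotientGroup.mk' (center L)) y
  rw [← h1, hq] at h2
  exact absurd (Nat.eq_one_of_dvd_coprimes hy h2 dvd_rfl) (by norm_num)

theorem component_unique (hFT : OddSolvable.{u})
    (hP : ∀ (p : ℕ), p.Prime → ∀ A B : Subgroup G, IsCyclic ↥A → IsCyclic ↥B → IsPGroup p ↥A →
      Nat.card ↥A = Nat.card ↥B → ∃ g : G, B = A.map (MulAut.conj g).toMonoidHom)
    {L K : Subgroup G} (hL : Cfsg.IsComponent L) (hK : Cfsg.IsComponent K) : L = K := by
  by_contra hne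
  obtain ⟨u, hu, ⟨a, ha⟩, huc⟩ := exists_two_element_noncentral hFT hL
  obtain ⟨v, hv, ⟨b, hb⟩, hvc⟩ := exists_two_element_noncentral hFT hK
  wlog hab : b ≤ a generalizing L K u v a b
  · exact this hK hL (Ne.symm hne) v hv hvc b hb u hu huc a ha (le_of_not_ge hab)
  have hcomm : ∀ {A B : Subgroup G}, Cfsg.IsComponent A → Cfsg.IsComponent B → A ≠ B →
      ∀ {x y : G}, x ∈ A → y ∈ B → y * x = x * y := fun hA hB hAB x y hx hy =>
    Subgroup.mem_centralizer_iff.1 (commutator_eq_bot_iff_le_centralizer.1 (IsComponent.commutator_eq_bot hA hB hAB) hx) y hy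
  have huv : Commute u v := (hcomm hL hK hne hu hv).symm
  have hw : orderOf (u * v) ∣ 2 ^ a := by
    rw [orderOf_dvd_iff_pow_eq_one, huv.mul_pow, ← ha, pow_orderOf_eq_one, one_mul, ha,
      ← orderOf_dvd_iff_pow_eq_one, hb]
    exact Nat.pow_dvd_pow 2 hab
  obtain ⟨c, -, hc⟩ := (Nat.dvd_prime_pow Nat.prime_two).1 hw
  obtain ⟨g, hg⟩ := hP 2 Nat.prime_two (zpowers (u ^ (orderOf u / orderOf (u * v)))) (zpowers (u * v))
    inferInstance inferInstance
    (IsPGroup.of_card (n := c) (by
      rw [Nat.card_zpowers, orderOf_pow_orderOf_div (orderOf_pos u).ne' (ha.symm ▸ hw), hc]))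
    (by rw [Nat.card_zpowers, Nat.card_zpowers, orderOf_pow_orderOf_div (orderOf_pos u).ne' (ha.symm ▸ hw)])
  have hmem : u * v ∈ L.map (MulAut.conj g).toMonoidHom := by
    have h1 : u * v ∈ zpowers (u * v) := mem_zpowers _
    rw [hg] at h1
    exact Subgroup.map_mono (zpowers_le.2 (pow_mem hu _)) h1
  have hL' := IsComponent.conj hL g
  by_cases hL'L : L.map (MulAut.conj g).toMonoidHom = L
  · -- `u * v ∈ L` centralises `K`
    rw [hL'L] at hmem
    refine hvc (Subgroup.mem_centralizer_iff.2 fun k hk => ?_)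
    have h2 : k * (u * v) = (u * v) * k := hcomm hL hK hne hmem hk
    have h3 : k * u = u * k := hcomm hL hK hne hu hk
    refine mul_left_cancel (a := u) ?_
    calc u * (k * v) = k * (u * v) := by rw [← mul_assoc, ← h3, mul_assoc]
      _ = u * (v * k) := by rw [h2, mul_assoc]
  · refine huc (Subgroup.mem_centralizer_iff.2 fun l hl => ?_)
    have h2 : l * (u * v) = (u * v) * l := hcomm hL' hL hL'L hmem hl
    have h3 : v * l = l * v := hcomm hL hK hne hl hv
    refine mul_right_cancel (b := v) ?_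
    calc l * u * v = u * (v * l) := by rw [mul_assoc, h2, mul_assoc]
      _ = u * l * v := by rw [h3, mul_assoc]

theorem layer_simple (hFT : OddSolvable.{u})
    (hP : ∀ (p : ℕ), p.Prime → ∀ A B : Subgroup G, IsCyclic ↥A → IsCyclic ↥B → IsPGroup p ↥A →
      Nat.card ↥A = Nat.card ↥B → ∃ g : G, B = A.map (MulAut.conj g).toMonoidHom)
    (hE : Cfsg.layer G ≠ ⊥) :
    IsSimpleGroup (↥(Cfsg.layer G) ⧸ center ↥(Cfsg.layer G)) ∧
      ¬ IsMulCommutative (↥(Cfsg.layer G) ⧸ center ↥(Cfsg.layer G)) := by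
  obtain ⟨L, hL⟩ : ∃ L : Subgroup G, Cfsg.IsComponent L := by
    by_contra h
    push Not at h
    exact hE (eq_bot_iff.2 (layer_le fun K hK => absurd hK (h K)))
  have he : Cfsg.layer G = L := le_antisymm
    (layer_le fun K hK => (component_unique hFT hP hK hL).le) (IsComponent.le_layer hL)
  rw [he]
  refine ⟨hL.2.2, fun hc => ?_⟩
  haveI := hL.2.1
  haveI := hL.2.2
  haveI : Nontrivial (L ⧸ center L) := IsSimpleGroup.toNontrivial
  haveI : Group.IsPerfect (L ⧸ center L) := Group.IsPerfect.ofSurjective (f := QuotientGroup.mk' _) (QuotientGroup.mk'_surjective _)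
  exact Group.IsPerfect.not_isMulCommutative _ hc

end Cfsg.Agent.FTUse
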