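import Cfsg.Agent.Lib.FTUse.Hall
import Cfsg.Agent.Lib.Cores.Fitting
import Cfsg.Agent.Lib.OddOrder.TypeGeneral
import Cfsg.Agent.Lib.Solvable.Fitting
import Cfsg.Agent.S1160
import Mathlib.FieldTheory.Finite.Basic
import Mathlib.FieldTheory.Galois.Basic
import Mathlib.RingTheory.IntegralDomain

/-!
# Solvable groups of odd order transitive on non-zero vectors up to sign

`D` odd order and solvable, acting faithfully on the finite elementary abelian `q`-group `E`, any two
non-zero vectors are related up to sign. Then `F(D)` is cyclic and semiregular, and the action is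
semilinear over a field structure on `E`.
-/

set_option autoImplicit false

namespace Cfsg.Agent.FTUse.Transitive

open MulAction

variable {D E : Type*} [Group D] [AddCommGroup E] [DistribMulAction D E]

/-- Transitive on non-zero vectors up to sign. -/
def SignTrans (D E : Type*) [Group D] [AddCommGroup E] [DistribMulAction D E] : Prop :=
  ∀ a b : E, a ≠ 0 → b ≠ 0 → ∃ d : D, d • a = b ∨ d • a = -b

theorem stabilizer_neg (a : E) : stabilizer D (-a) = stabilizer D a := by
  ext g
  simp [mem_stabilizer_iff, smul_neg, neg_inj]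

theorem card_stabilizer_eq {N : Subgroup D} [hN : N.Normal] (ht : SignTrans D E) {a b : E}
    (ha : a ≠ 0) (hb : b ≠ 0) : Nat.card (stabilizer N a) = Nat.card (stabilizer N b) := by
  obtain ⟨d, hd⟩ := ht a b ha hb
  have hs : ∀ n : N, n • b = b ↔ (n : D) • d • a = d • a := by
    intro n
    rcases hd with e | e
    · rw [e]; rfl
    · rw [e, smul_neg, neg_inj]; rfl
  refine Nat.card_congr ((MulAut.conjNormal d : MulAut N).toEquiv.subtypeEquiv fun n => ?_)
  show n • a = a ↔ (MulAut.conjNormal d n) • b = b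
  rw [hs, MulAut.conjNormal_apply]
  simp [mul_smul]
  rfl

variable [Finite D] [Finite E] [FaithfulSMul D E]

section

variable (hodd : Odd (Nat.card D)) {q : ℕ} (hq : q.Prime) (hE : ∀ e : E, q • e = 0) (ht : SignTrans D E)
include hodd hq hE ht

theorem pGroup_cyclic_semiregular {p : ℕ} [hp : Fact p.Prime] {P : Subgroup D} [P.Normal]
    (hP : IsPGroup p P) :
    IsCyclic P ∧ ∀ g ∈ P, g ≠ 1 → ∀ a : E, g • a = a → a = 0 := by
  haveI : FaithfulSMul P E := ⟨fun {m n} h => Subtype.ext (eq_of_smul_eq_smul (α := E) h)⟩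
  rcases eq_or_ne p 2 with rfl | hp2
  · have h1 : P = ⊥ := by
      obtain ⟨k, hk⟩ := hP.exists_card_eq
      have h2 : Odd (Nat.card P) := hodd.of_dvd_nat (Subgroup.card_subgroup_dvd_card P)
      rcases k with _ | k
      · exact P.eq_bot_of_card_eq (by rw [hk, pow_zero])
      · rw [hk] at h2
        exact absurd h2 (Nat.not_odd_iff_even.2 (Nat.even_pow.2 ⟨even_two, by omega⟩))
    subst h1
    exact ⟨inferInstance, fun g hg hg1 => absurd (Subgroup.mem_bot.1 hg) hg1⟩
  · obtain ⟨hc, hs⟩ := S1160.result (P := P) (E := E) hp2 hP hq hE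
      (fun a b ha hb => card_stabilizer_eq ht ha hb)
    exact ⟨hc, fun g hg hg1 a ha => hs ⟨g, hg⟩ (fun e => hg1 (congrArg Subtype.val e)) a ha⟩

theorem pSubgroup_le {p : ℕ} [hp : Fact p.Prime] {S : Subgroup D} (hS : IsPGroup p S)
    (hSF : S ≤ Cfsg.fittingSubgroup D) :
    ∃ P : Subgroup D, P.Normal ∧ IsPGroup p P ∧ S ≤ P := by
  have hF := Cores.fittingSubgroup_isNilpotent (G := D)
  set F := Cfsg.fittingSubgroup D
  obtain ⟨T, hT⟩ := IsPGroup.exists_le_sylow (P := S.subgroupOf F)
    (hS.of_equiv (Subgroup.subgroupOfEquivOfLe hSF).symm)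
  haveI : (T : Subgroup F).Normal :=
    Sylow.normal_of_normalizerCondition Group.normalizerCondition_of_isNilpotent T
  haveI := Sylow.characteristic_of_normal T inferInstance
  refine ⟨(T : Subgroup F).map F.subtype, inferInstance, T.2.map _, ?_⟩
  rw [← Subgroup.map_subgroupOf_eq_of_le hSF]
  exact Subgroup.map_mono hT

theorem fitting_semiregular {g : D} (hg : g ∈ Cfsg.fittingSubgroup D) (hg1 : g ≠ 1) {a : E}
    (ha : g • a = a) : a = 0 := by
  obtain ⟨p, hp, hd⟩ := Nat.exists_prime_and_dvd (mt orderOf_eq_one_iff.1 hg1)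
  haveI := Fact.mk hp
  set x := g ^ (orderOf g / p)
  have hx : orderOf x = p := orderOf_pow_orderOf_div (orderOf_pos g).ne' hd
  obtain ⟨P, hPn, hP, hle⟩ := pSubgroup_le hodd hq hE ht (p := p) (S := Subgroup.zpowers x)
    (IsPGroup.of_card (n := 1) (by rw [Nat.card_zpowers, hx, pow_one]))
    (Subgroup.zpowers_le.2 (pow_mem hg _))
  refine (pGroup_cyclic_semiregular hodd hq hE ht hP).2 x (hle (Subgroup.mem_zpowers x))
    (fun e => hp.ne_one (by rw [← hx, e, orderOf_one])) a ?_
  exact (pow_mem (show g ∈ stabilizer D a from ha) _)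

theorem fitting_isCyclic : IsCyclic ↥(Cfsg.fittingSubgroup D) := by
  refine OddMax.isCyclic_of_sylows Cores.fittingSubgroup_isNilpotent fun p hp S hSF hS => ?_
  haveI := Fact.mk hp
  obtain ⟨P, hPn, hP, hle⟩ := pSubgroup_le hodd hq hE ht hS hSF
  haveI := (pGroup_cyclic_semiregular hodd hq hE ht hP).1
  exact Subgroup.isCyclic_of_le hle

theorem commutator_le_fitting [Group.IsSolvable D] : commutator D ≤ Cfsg.fittingSubgroup D := by
  haveI := fitting_isCyclic hodd hq hE ht
  set F := Cfsg.fittingSubgroup D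
  let c : D →* MulAut F := MulAut.conjNormal
  refine le_trans ?_ (Solvable.centralizer_fitting_le D)
  have h1 : commutator D ≤ c.ker := by
    rw [commutator_def, Subgroup.commutator_le]
    intro x _ y _
    rw [MonoidHom.mem_ker, map_commutatorElement, commutatorElement_eq_one_iff_mul_comm]
    apply (IsCyclic.mulAutMulEquiv F).injective
    rw [map_mul, map_mul, mul_comm]
  refine h1.trans fun x hx => Subgroup.mem_centralizer_iff.2 fun f hf => ?_
  have h2 : x * f * x⁻¹ = f := by
    simpa [c, MulAut.conjNormal_apply] using congrArg Subtype.val (DFunLike.congr_fun (MonoidHom.mem_ker.1 hx) ⟨f, hf⟩)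
  exact (mul_inv_eq_iff_eq_mul.1 h2).symm

end

end Cfsg.Agent.FTUse.Transitive
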